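import Mathlib.FieldTheory.IsAlgClosed.Basic
import Mathlib.LinearAlgebra.Eigenspace.Triangularizable
import Mathlib.LinearAlgebra.FiniteDimensional.Lemmas
import Mathlib.GroupTheory.Index
import Mathlib.GroupTheory.OrderOfElement
import Mathlib.RepresentationTheory.Basic
import Mathlib.GroupTheory.PGroup

/-!
Semisimple elements of finite linear groups over an algebraically closed field: the splitting along an
eigenvalue, the characters of an abelian group of `p`-regular elements, and an abelian subgroup of bounded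
index in the centraliser of a non-scalar element.
-/

set_option autoImplicit false
set_option linter.unusedSectionVars false

namespace CfsgLib.LinJordan

open Module Subgroup

universe u v

variable {p : ℕ} [hp : Fact p.Prime] {k : Type v} [Field k] [CharP k p]
  {V : Type v} [AddCommGroup V] [Module k V] {G : Type u} [Group G]

/-- The restriction to an invariant subspace. -/
def subRep (ρ : Representation k G V) (W : Submodule k V) (hW : ∀ g, ∀ w ∈ W, ρ g w ∈ W) :
    Representation k G W where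
  toFun g := (ρ g).restrict (hW g)
  map_one' := by ext w; simp
  map_mul' g h := by ext w; simp

theorem subRep_apply (ρ : Representation k G V) (W : Submodule k V)
    (hW : ∀ g, ∀ w ∈ W, ρ g w ∈ W) (g : G) (w : W) : ((subRep ρ W hW g w : W) : V) = ρ g w := rfl

/-- The scalar elements. -/
def scal (ρ : Representation k G V) : Subgroup G where
  carrier := {g | ∃ c : k, c ≠ 0 ∧ ∀ v, ρ g v = c • v}
  one_mem' := ⟨1, one_ne_zero, fun v => by simp⟩
  mul_mem' := by
    rintro g h ⟨c, hc, hg⟩ ⟨d, hd, hh⟩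
    exact ⟨c * d, mul_ne_zero hc hd, fun v => by
      rw [map_mul, Module.End.mul_apply, hh, map_smul, hg, smul_smul, mul_comm]⟩
  inv_mem' := by
    rintro g ⟨c, hc, hg⟩
    refine ⟨c⁻¹, inv_ne_zero hc, fun v => ?_⟩
    have h := congrArg (fun w => c⁻¹ • w) (hg (ρ g⁻¹ v))
    simp only [smul_smul, inv_mul_cancel₀ hc, one_smul] at h
    rw [← Module.End.mul_apply, ← map_mul, mul_inv_cancel, map_one, Module.End.one_apply] at h
    exact h.symm

theorem scal_comm (ρ : Representation k G V) (hρ : Function.Injective ρ) {z : G} (hz : z ∈ scal ρ)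
    (g : G) : g * z = z * g := by
  obtain ⟨c, -, hc⟩ := hz
  apply hρ
  ext v
  rw [map_mul, map_mul, Module.End.mul_apply, Module.End.mul_apply, hc, hc, map_smul]

/-- `p`-regular. -/
def Reg (p : ℕ) (g : G) : Prop := ¬ p ∣ orderOf g

theorem reg_one : Reg p (1 : G) := by
  rw [Reg, orderOf_one]; exact hp.out.not_dvd_one

theorem reg_iff_coprime {g : G} : Reg p g ↔ p.Coprime (orderOf g) :=
  (hp.out.coprime_iff_not_dvd).symm

theorem reg_of_dvd {g h : G} (hd : orderOf g ∣ orderOf h) (hh : Reg p h) : Reg p g :=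
  fun e => hh (e.trans hd)

theorem reg_mul {g h : G} (hc : Commute g h) (hg : Reg p g) (hh : Reg p h) : Reg p (g * h) :=
  fun e => (hp.out.dvd_mul.1 (e.trans hc.orderOf_mul_dvd_mul_orderOf)).elim hg hh

theorem reg_map {H : Type*} [Group H] (f : G →* H) {g : G} (hg : Reg p g) : Reg p (f g) :=
  fun e => hg (e.trans (orderOf_map_dvd f g))

theorem reg_of_mem_scal [Finite G] (ρ : Representation k G V) (hρ : Function.Injective ρ) {z : G}
    (hz : z ∈ scal ρ) : Reg p z := by
  intro hd
  obtain ⟨c, hc, hzc⟩ := hz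
  obtain ⟨t, ht⟩ := hd
  have hpow : ∀ (i : ℕ) (v : V), ρ (z ^ i) v = c ^ i • v := by
    intro i
    induction i with
    | zero => intro v; simp
    | succ i ih => intro v; rw [pow_succ, map_mul, Module.End.mul_apply, hzc, map_smul, ih, smul_smul, pow_succ']
  have hord : z ^ t ≠ 1 := by
    intro h
    have h1 := orderOf_dvd_of_pow_eq_one h
    rw [ht] at h1
    have hpos : 0 < t := by
      rcases Nat.eq_zero_or_pos t with h0 | h0
      · rw [h0, mul_zero] at ht; exact absurd ht (orderOf_pos z).ne'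
      · exact h0
    exact absurd (Nat.le_of_dvd hpos h1) (by nlinarith [hp.out.two_le])
  apply hord
  apply hρ
  ext v
  rw [hpow, map_one, Module.End.one_apply]
  by_cases hv : v = 0
  · simp [hv]
  have h1 : c ^ (p * t) • v = v := by rw [← hpow, ← ht, pow_orderOf_eq_one, map_one]; rfl
  have h2 : c ^ (p * t) = 1 := by
    have h3 : (c ^ (p * t) - 1) • v = 0 := by rw [sub_smul, one_smul, h1, sub_self]
    exact sub_eq_zero.1 ((smul_eq_zero.1 h3).resolve_right hv)
  rw [mul_comm, pow_mul] at h2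
  have h3 : c ^ t = 1 := frobenius_inj k p (by rw [map_one]; exact h2)
  rw [h3, one_smul]

variable [IsAlgClosed k] [FiniteDimensional k V]

/-- A non-scalar `p`-regular element splits the space into two proper invariant subspaces. -/
theorem exists_split [Finite G] [Nontrivial V] (ρ : Representation k G V) {y : G} (hy : Reg p y)
    (hns : ¬ ∃ c : k, ∀ v, ρ y v = c • v) :
    ∃ W₁ W₂ : Submodule k V, IsCompl W₁ W₂ ∧ finrank k W₁ < finrank k V ∧ finrank k W₂ < finrank k V ∧
      ∀ g, g * y = y * g → (∀ w ∈ W₁, ρ g w ∈ W₁) ∧ (∀ w ∈ W₂, ρ g w ∈ W₂) := by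
  obtain ⟨c, hc⟩ := Module.End.exists_eigenvalue (ρ y)
  obtain ⟨v₀, hv₀⟩ := hc.exists_hasEigenvector
  set T : Module.End k V := ρ y - c • 1 with hT
  have hTa : ∀ v, T v = ρ y v - c • v := fun v => rfl
  have hpow : ∀ (i : ℕ) (w : V), T (T w) = 0 →
      c • ρ (y ^ i) w = c ^ (i + 1) • w + ((i : k) * c ^ i) • T w := by
    intro i w hw
    induction i with
    | zero => simp
    | succ i ih =>
      have h1 : ρ y w = c • w + T w := by rw [hTa]; abel
      have h2 : ρ y (T w) = c • T w := by rw [← sub_eq_zero, ← hTa, hw]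
      rw [pow_succ' y, map_mul, Module.End.mul_apply, ← map_smul (ρ y), ih, map_add, map_smul,
        map_smul, h1, h2, smul_add, smul_smul, smul_smul, add_assoc, ← add_smul]
      push_cast
      ring_nf
  have heig : ∀ i : ℕ, ρ (y ^ i) v₀ = c ^ i • v₀ := by
    intro i
    induction i with
    | zero => simp
    | succ i ih =>
      rw [pow_succ', map_mul, Module.End.mul_apply, ih, map_smul, hv₀.apply_eq_smul, smul_smul,
        pow_succ]
  have hco : c ^ orderOf y = 1 := by
    have h := heig (orderOf y)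
    rw [pow_orderOf_eq_one, map_one, Module.End.one_apply] at h
    have h3 : (c ^ orderOf y - 1) • v₀ = 0 := by rw [sub_smul, one_smul, ← h, sub_self]
    exact sub_eq_zero.1 ((smul_eq_zero.1 h3).resolve_right hv₀.2)
  have hdisj : Disjoint (LinearMap.ker T) (LinearMap.range T) := by
    rw [Submodule.disjoint_def]
    rintro v hv ⟨w, rfl⟩
    have hw : T (T w) = 0 := hv
    have h := hpow (orderOf y) w hw
    rw [pow_orderOf_eq_one, map_one, Module.End.one_apply, pow_succ, hco, one_mul, mul_one,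
      left_eq_add] at h
    refine (smul_eq_zero.1 h).resolve_left fun e => hy ?_
    exact (CharP.cast_eq_zero_iff k p _).1 e
  have hker : LinearMap.ker T ≠ ⊥ := by
    rw [Submodule.ne_bot_iff]
    refine ⟨v₀, ?_, hv₀.2⟩
    rw [LinearMap.mem_ker, hTa, hv₀.apply_eq_smul, sub_self]
  have hker' : LinearMap.ker T ≠ ⊤ := fun h => hns ⟨c, fun v => by
    have : v ∈ LinearMap.ker T := h ▸ Submodule.mem_top
    rwa [LinearMap.mem_ker, hTa, sub_eq_zero] at this⟩
  have hcompl : IsCompl (LinearMap.ker T) (LinearMap.range T) := by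
    refine ⟨hdisj, ?_⟩
    rw [codisjoint_iff]
    refine Submodule.eq_top_of_finrank_eq ?_
    have h1 := Submodule.finrank_sup_add_finrank_inf_eq (LinearMap.ker T) (LinearMap.range T)
    rw [hdisj.eq_bot, finrank_bot, add_zero] at h1
    rw [h1, add_comm, LinearMap.finrank_range_add_finrank_ker]
  have h1 : finrank k (LinearMap.ker T) < finrank k V := Submodule.finrank_lt hker'
  have h2 : finrank k (LinearMap.range T) < finrank k V := by
    have := LinearMap.finrank_range_add_finrank_ker T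
    have : 0 < finrank k (LinearMap.ker T) := by
      haveI := Submodule.nontrivial_iff_ne_bot.2 hker
      exact finrank_pos
    omega
  refine ⟨_, _, hcompl, h1, h2, fun g hg => ?_⟩
  have hTg : ∀ v, T (ρ g v) = ρ g (T v) := by
    intro v
    rw [hTa, hTa, map_sub, map_smul, ← Module.End.mul_apply, ← map_mul, ← hg, map_mul,
      Module.End.mul_apply]
  constructor
  · intro w hw
    rw [LinearMap.mem_ker] at hw ⊢
    rw [hTg, hw, map_zero]
  · rintro w ⟨u, rfl⟩
    exact ⟨ρ g u, hTg u⟩

/-- The characters occurring in an abelian group of `p`-regular elements: at most `dim V`, separating. -/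
theorem exists_chars [Finite G] (hcomm : ∀ a b : G, a * b = b * a) (hreg : ∀ a : G, Reg p a) :
    ∀ (V : Type v) [AddCommGroup V] [Module k V] [FiniteDimensional k V] (ρ : Representation k G V),
      ∃ s : Finset (G → k), s.card ≤ finrank k V ∧
        (∀ χ : G → k, χ ∈ s ↔ ∃ v : V, v ≠ 0 ∧ ∀ a, ρ a v = χ a • v) ∧
        ∀ a, (∀ χ ∈ s, χ a = 1) → ρ a = 1 := by
  intro V _ _ _
  induction hn : finrank k V using Nat.strong_induction_on generalizing V with
  | _ n ih =>
    intro ρ
    classical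
    subst hn
    rcases subsingleton_or_nontrivial V with hV | hV
    · refine ⟨∅, by simp, fun χ => ?_, fun a _ => LinearMap.ext fun v => Subsingleton.elim _ _⟩
      simp only [Finset.notMem_empty, false_iff, not_exists, not_and]
      exact fun v hv => absurd (Subsingleton.elim v 0) hv
    by_cases hall : ∀ a : G, ∃ c : k, ∀ v, ρ a v = c • v
    · choose c hc using hall
      obtain ⟨v₀, hv₀⟩ := exists_ne (0 : V)
      refine ⟨{c}, ?_, fun χ => ?_, fun a ha => ?_⟩
      · rw [Finset.card_singleton]; exact finrank_pos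
      · rw [Finset.mem_singleton]
        refine ⟨fun h => ⟨v₀, hv₀, fun a => by rw [hc, h]⟩, ?_⟩
        rintro ⟨v, hv, hva⟩
        funext a
        have h3 : (χ a - c a) • v = 0 := by rw [sub_smul, ← hva, ← hc, sub_self]
        exact sub_eq_zero.1 ((smul_eq_zero.1 h3).resolve_right hv)
      · ext v
        rw [hc, ha c (Finset.mem_singleton_self _), one_smul, Module.End.one_apply]
    · push_neg at hall
      obtain ⟨a₀, ha₀⟩ := hall
      obtain ⟨W₁, W₂, hW, hd1, hd2, hinv⟩ := exists_split ρ (hreg a₀)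
        (fun ⟨c, hc⟩ => let ⟨v, hv⟩ := ha₀ c; hv (hc v))
      have hi1 : ∀ g, ∀ w ∈ W₁, ρ g w ∈ W₁ := fun g => (hinv g (hcomm g a₀)).1
      have hi2 : ∀ g, ∀ w ∈ W₂, ρ g w ∈ W₂ := fun g => (hinv g (hcomm g a₀)).2
      obtain ⟨s₁, hs1, hm1, hsep1⟩ := ih _ hd1 W₁ rfl (subRep ρ W₁ hi1)
      obtain ⟨s₂, hs2, hm2, hsep2⟩ := ih _ hd2 W₂ rfl (subRep ρ W₂ hi2)
      refine ⟨s₁ ∪ s₂, ?_, fun χ => ?_, fun a ha => ?_⟩
      · refine (Finset.card_union_le _ _).trans ?_
        rw [← Submodule.finrank_add_eq_of_isCompl hW]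
        omega
      · constructor
        · intro hχ
          rcases Finset.mem_union.1 hχ with h | h
          · obtain ⟨w, hw, hwa⟩ := (hm1 χ).1 h
            exact ⟨w, fun e => hw (Subtype.ext e), fun a => congrArg Subtype.val (hwa a)⟩
          · obtain ⟨w, hw, hwa⟩ := (hm2 χ).1 h
            exact ⟨w, fun e => hw (Subtype.ext e), fun a => congrArg Subtype.val (hwa a)⟩
        · rintro ⟨v, hv, hva⟩
          obtain ⟨v₁, h1, v₂, h2, rfl⟩ :=
            Submodule.mem_sup.1 ((hW.sup_eq_top).symm ▸ Submodule.mem_top : v ∈ W₁ ⊔ W₂)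
          have key : ∀ a, ρ a v₁ = χ a • v₁ ∧ ρ a v₂ = χ a • v₂ := by
            intro a
            have h := hva a
            rw [map_add, smul_add] at h
            have e : ρ a v₁ - χ a • v₁ = χ a • v₂ - ρ a v₂ := by
              rw [sub_eq_sub_iff_add_eq_add, h, add_comm]
            have hmem1 := W₁.sub_mem (hi1 a v₁ h1) (W₁.smul_mem (χ a) h1)
            have hz := Submodule.disjoint_def.1 hW.disjoint _ hmem1
              (e ▸ W₂.sub_mem (W₂.smul_mem (χ a) h2) (hi2 a v₂ h2))
            exact ⟨sub_eq_zero.1 hz, (sub_eq_zero.1 (e ▸ hz)).symm⟩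
          rw [Finset.mem_union]
          by_cases h0 : v₁ = 0
          · subst h0
            rw [zero_add] at hv
            exact Or.inr ((hm2 χ).2 ⟨⟨v₂, h2⟩, fun e => hv (congrArg Subtype.val e),
              fun a => Subtype.ext (key a).2⟩)
          · exact Or.inl ((hm1 χ).2 ⟨⟨v₁, h1⟩, fun e => h0 (congrArg Subtype.val e),
              fun a => Subtype.ext (key a).1⟩)
      · have e1 := hsep1 a fun χ h => ha χ (Finset.mem_union_left _ h)
        have e2 := hsep2 a fun χ h => ha χ (Finset.mem_union_right _ h)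
        ext v
        obtain ⟨v₁, h1, v₂, h2, rfl⟩ :=
          Submodule.mem_sup.1 ((hW.sup_eq_top).symm ▸ Submodule.mem_top : v ∈ W₁ ⊔ W₂)
        rw [map_add, map_add, show ρ a v₁ = v₁ from congrArg Subtype.val (LinearMap.congr_fun e1 ⟨v₁, h1⟩),
          show ρ a v₂ = v₂ from congrArg Subtype.val (LinearMap.congr_fun e2 ⟨v₂, h2⟩)]
        rfl

/-- The normaliser of an abelian `p`-regular subgroup induces at most `(dim V) ^ (dim V)` automorphisms. -/
theorem relIndex_centralizer_le [Finite G] (ρ : Representation k G V) (hρ : Function.Injective ρ)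
    (A : Subgroup G) (hA : ∀ a ∈ A, ∀ b ∈ A, a * b = b * a) (hreg : ∀ a ∈ A, Reg p a) :
    (centralizer (A : Set G)).relIndex (normalizer (A : Set G)) ≤ finrank k V ^ finrank k V := by
  classical
  obtain ⟨s, hs, hmem, hsep⟩ := exists_chars (p := p) (k := k) (G := A)
    (fun a b => Subtype.ext (hA a a.2 b b.2))
    (fun a h => hreg a a.2 (by rwa [Subgroup.orderOf_coe])) V (ρ.comp A.subtype)
  let N := normalizer (A : Set G)
  have hNA : ∀ (g : N) (a : A), (g : G)⁻¹ * a * g ∈ A := fun g a => by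
    have := (mem_normalizer_iff.1 (N.inv_mem g.2) (a : G)).1 a.2
    rwa [inv_inv] at this
  have hσ : ∀ (g : N) (χ : s), (fun a : A => (χ : A → k) ⟨_, hNA g a⟩) ∈ s := by
    intro g χ
    obtain ⟨v, hv, hva⟩ := (hmem _).1 χ.2
    refine (hmem _).2 ⟨ρ g v, fun e => hv ?_, fun a => ?_⟩
    · have := congrArg (ρ (g : G)⁻¹) e
      rwa [← Module.End.mul_apply, ← map_mul, inv_mul_cancel, map_one, map_zero] at this
    · have h := congrArg (ρ (g : G)) (hva ⟨_, hNA g a⟩)
      rw [map_smul] at h
      rw [← h]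
      show ρ a (ρ g v) = ρ g (ρ ((g : G)⁻¹ * a * g) v)
      rw [← Module.End.mul_apply, ← Module.End.mul_apply, ← map_mul, ← map_mul]
      congr 2
      group
  let σ : N → (s → s) := fun g χ => ⟨_, hσ g χ⟩
  let C := (centralizer (A : Set G)).subgroupOf N
  have hinj : ∀ g h : N, σ g = σ h → g * h⁻¹ ∈ C := by
    intro g h e
    rw [Subgroup.mem_subgroupOf, mem_centralizer_iff]
    intro a ha
    set x : A := ⟨_, hNA g ⟨a, ha⟩⟩ with hx
    set y : A := ⟨_, hNA h ⟨a, ha⟩⟩ with hy
    have hxy : x * y⁻¹ = 1 := by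
      have h1 : ρ ((x * y⁻¹ : A) : G) = 1 := by
        refine hsep (x * y⁻¹) fun χ hχ => ?_
        obtain ⟨v, hv, hva⟩ := (hmem _).1 hχ
        have hmul : ∀ b c : A, χ (b * c) = χ b * χ c := fun b c => by
          have h := hva (b * c)
          rw [map_mul, Module.End.mul_apply, hva, map_smul, hva, smul_smul] at h
          have h3 : (χ c * χ b - χ (b * c)) • v = 0 := by rw [sub_smul, h, sub_self]
          rw [← sub_eq_zero.1 ((smul_eq_zero.1 h3).resolve_right hv), mul_comm]
        have hone : χ 1 = 1 := by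
          have h := hva 1
          rw [map_one, Module.End.one_apply] at h
          have h3 : (χ 1 - 1) • v = 0 := by rw [sub_smul, one_smul, ← h, sub_self]
          exact sub_eq_zero.1 ((smul_eq_zero.1 h3).resolve_right hv)
        have hxy : χ x = χ y := congrArg (fun f : s → s => ((f ⟨χ, hχ⟩ : s) : A → k) ⟨a, ha⟩) e
        rw [hmul, hxy, ← hmul, mul_inv_cancel, hone]
      exact Subtype.ext (hρ (h1.trans (map_one ρ).symm))
    have hxy' : (g : G)⁻¹ * a * g = (h : G)⁻¹ * a * h :=
      congrArg Subtype.val (mul_inv_eq_one.1 hxy)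
    rw [Subgroup.coe_mul, Subgroup.coe_inv]
    calc a * ((g : G) * (h : G)⁻¹) = (g : G) * ((g : G)⁻¹ * a * g) * (h : G)⁻¹ := by group
      _ = (g : G) * (h : G)⁻¹ * a := by rw [hxy']; group
  have hcard : Nat.card (N ⧸ C) ≤ Nat.card (s → s) := by
    refine Nat.card_le_card_of_injective (fun q => σ (q.out)⁻¹) fun q r h => ?_
    have := hinj _ _ h
    rw [inv_inv] at this
    rw [← QuotientGroup.out_eq' q, ← QuotientGroup.out_eq' r]
    exact QuotientGroup.eq.2 this
  refine le_trans hcard ?_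
  rw [Nat.card_fun, Nat.card_eq_finsetCard]
  exact Nat.pow_self_mono hs

/-- An abelian `p`-regular subgroup of bounded index in the centraliser of a non-scalar `p`-regular element. -/
theorem exists_abelian_centralizer [Finite G] (ρ : Representation k G V) (hρ : Function.Injective ρ)
    {m B : ℕ} (hm : (Nat.card G).factorization p ≤ m)
    (hB : ∀ (H : Type u) [Group H] [Finite H] (W : Type v) [AddCommGroup W] [Module k W]
      [FiniteDimensional k W] (σ : Representation k H W), Function.Injective σ →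
      finrank k W < finrank k V → (Nat.card H).factorization p ≤ m →
      ∃ A : Subgroup H, (∀ a ∈ A, ∀ b ∈ A, a * b = b * a) ∧ A.index ≤ B)
    {y : G} (hy : Reg p y) (hys : y ∉ scal ρ) :
    ∃ A : Subgroup G, scal ρ ≤ A ∧ A ≤ centralizer ({y} : Set G) ∧ (∀ a ∈ A, ∀ b ∈ A, a * b = b * a) ∧
      (∀ a ∈ A, Reg p a) ∧ A.relIndex (centralizer ({y} : Set G)) ≤ B * B * p ^ m := by
  classical
  rcases subsingleton_or_nontrivial V with hV | hV
  · exact absurd ⟨1, one_ne_zero, fun v => Subsingleton.elim _ _⟩ hys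
  obtain ⟨W₁, W₂, hW, hd1, hd2, hinv⟩ := exists_split ρ hy (fun ⟨c, hc⟩ => hys (by
    refine ⟨c, fun h0 => ?_, hc⟩
    obtain ⟨v, hv⟩ := exists_ne (0 : V)
    refine hv ?_
    have := congrArg (ρ y⁻¹) (hc v)
    rw [← Module.End.mul_apply, ← map_mul, inv_mul_cancel, map_one, Module.End.one_apply, h0,
      zero_smul, map_zero] at this
    exact this))
  set C := centralizer ({y} : Set G) with hC
  have hcomm : ∀ g : C, (g : G) * y = y * g := fun g => (mem_centralizer_singleton_iff.1 g.2)
  have key : ∀ (W : Submodule k V) (hi : ∀ g : C, ∀ w ∈ W, ρ g w ∈ W), finrank k W < finrank k V →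
      ∃ P : Subgroup C, P.index ≤ B ∧ ∀ a ∈ P, ∀ b ∈ P, ∀ w ∈ W,
        ρ ((a : G) * b) w = ρ ((b : G) * a) w := by
    intro W hi hd
    let τ := subRep (ρ.comp C.subtype) W hi
    let K : Subgroup C := MonoidHom.ker (τ : C →* Module.End k W)
    let q := QuotientGroup.mk' K
    let σ : Representation k (C ⧸ K) W := QuotientGroup.lift K τ (fun x hx => hx)
    have hσ : Function.Injective σ := by
      intro u v huv
      obtain ⟨a, rfl⟩ := QuotientGroup.mk_surjective u
      obtain ⟨b, rfl⟩ := QuotientGroup.mk_surjective v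
      have h' : τ a = τ b := huv
      refine QuotientGroup.eq.2 ?_
      show τ (a⁻¹ * b) = 1
      rw [map_mul, ← h', ← map_mul, inv_mul_cancel, map_one]
    have hdvd : Nat.card (C ⧸ K) ∣ Nat.card G :=
      (Subgroup.card_quotient_dvd_card K).trans (Subgroup.card_subgroup_dvd_card C)
    obtain ⟨A, hA, hAi⟩ := hB (C ⧸ K) W σ hσ hd
      (((Nat.factorization_le_iff_dvd Nat.card_pos.ne' Nat.card_pos.ne').2 hdvd p).trans hm)
    refine ⟨A.comap q, le_of_eq_of_le (A.index_comap_of_surjective (QuotientGroup.mk'_surjective K)) hAi,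
      fun a ha b hb w hw => ?_⟩
    have h1 : σ (q a * q b) = σ (q b * q a) := congrArg σ (hA _ ha _ hb)
    rw [← map_mul, ← map_mul] at h1
    exact congrArg Subtype.val (LinearMap.congr_fun (show τ (a * b) = τ (b * a) from h1) ⟨w, hw⟩)
  obtain ⟨P₁, hP1, hc1⟩ := key W₁ (fun g => (hinv g (hcomm g)).1) hd1
  obtain ⟨P₂, hP2, hc2⟩ := key W₂ (fun g => (hinv g (hcomm g)).2) hd2
  let P := P₁ ⊓ P₂
  have hPc : ∀ a ∈ P, ∀ b ∈ P, a * b = b * a := by
    intro a ha b hb
    apply Subtype.ext
    apply hρ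
    ext v
    obtain ⟨v₁, h1, v₂, h2, rfl⟩ :=
      Submodule.mem_sup.1 ((hW.sup_eq_top).symm ▸ Submodule.mem_top : v ∈ W₁ ⊔ W₂)
    rw [Subgroup.coe_mul, Subgroup.coe_mul, map_add (ρ _), map_add (ρ _),
      hc1 a ha.1 b hb.1 v₁ h1, hc2 a ha.2 b hb.2 v₂ h2]
  let f : P →* G :=
    { toFun := fun x => ((x : C) : G) ^ p ^ m
      map_one' := by simp
      map_mul' := fun a b => by
        have hcg : Commute ((a : C) : G) ((b : C) : G) :=
          congrArg Subtype.val (hPc a a.2 b b.2)
        exact hcg.mul_pow _ }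
  have hfreg : ∀ x ∈ f.range, Reg p x := by
    rintro - ⟨a, rfl⟩
    intro hd
    have hn : orderOf ((a : C) : G) ≠ 0 := (orderOf_pos _).ne'
    have h1 : (orderOf ((a : C) : G)).factorization p ≤ m :=
      ((Nat.factorization_le_iff_dvd hn Nat.card_pos.ne').2 (orderOf_dvd_natCard _) p).trans hm
    have h2 : f a ^ (orderOf ((a : C) : G) / p ^ (orderOf ((a : C) : G)).factorization p) = 1 := by
      show (((a : C) : G) ^ p ^ m) ^ _ = 1
      rw [← pow_mul, ← orderOf_dvd_iff_pow_eq_one]
      refine dvd_trans (dvd_of_eq (Nat.ordProj_mul_ordCompl_eq_self _ p).symm) ?_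
      exact Nat.mul_dvd_mul_right (pow_dvd_pow p h1) _
    exact Nat.not_dvd_ordCompl hp.out hn (hd.trans (orderOf_dvd_of_pow_eq_one h2))
  have hker : IsPGroup p f.ker := fun x => ⟨m, Subtype.ext (Subtype.ext (Subtype.ext (show
    (((x : P) : C) : G) ^ p ^ m = 1 from x.2)))⟩
  have hkcard : Nat.card f.ker ≤ p ^ m := by
    obtain ⟨i, hi⟩ := IsPGroup.iff_card.1 hker
    have hd : Nat.card f.ker ∣ Nat.card G := ((Subgroup.card_subgroup_dvd_card f.ker).trans
      (Subgroup.card_subgroup_dvd_card P)).trans (Subgroup.card_subgroup_dvd_card C)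
    rw [hi] at hd ⊢
    exact Nat.pow_le_pow_right hp.out.pos
      (((hp.out.pow_dvd_iff_le_factorization Nat.card_pos.ne').1 hd).trans hm)
  have hQC : f.range ≤ C := by
    rintro - ⟨a, rfl⟩; exact C.pow_mem (a : C).2 _
  have hzC : scal ρ ≤ C := fun z hz => mem_centralizer_singleton_iff.2 (scal_comm ρ hρ hz y).symm
  refine ⟨f.range ⊔ scal ρ, le_sup_right, sup_le hQC hzC, ?_, ?_, ?_⟩
  · have hgen : f.range ⊔ scal ρ ≤ centralizer ((f.range ⊔ scal ρ : Subgroup G) : Set G) := by
      have h1 : ∀ a ∈ f.range, ∀ b ∈ f.range, a * b = b * a := by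
        rintro - ⟨a, rfl⟩ - ⟨b, rfl⟩
        rw [← map_mul, ← map_mul]
        exact congrArg f (Subtype.ext (hPc a a.2 b b.2))
      refine sup_le ?_ ?_
      · rw [le_centralizer_iff]
        refine sup_le (fun b hb => mem_centralizer_iff.2 fun a ha => h1 a ha b hb)
          (fun z hz => mem_centralizer_iff.2 fun a _ => scal_comm ρ hρ hz a)
      · exact fun z hz => mem_centralizer_iff.2 fun a _ => scal_comm ρ hρ hz a
    exact fun a ha b hb => mem_centralizer_iff.1 (hgen hb) a ha
  · intro x hx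
    have hx' : x ∈ Subgroup.closure ((f.range : Set G) ∪ (scal ρ : Set G)) := by
      rwa [Subgroup.sup_eq_closure] at hx
    obtain ⟨a, ha, z, hz, rfl⟩ : ∃ a ∈ f.range, ∃ z ∈ scal ρ, a * z = x := by
      clear hx
      induction hx' using Subgroup.closure_induction with
      | mem u hu =>
        rcases hu with hu | hu
        · exact ⟨u, hu, 1, one_mem _, mul_one u⟩
        · exact ⟨1, one_mem _, u, hu, one_mul u⟩
      | one => exact ⟨1, one_mem _, 1, one_mem _, one_mul 1⟩
      | mul u w _ _ hu hw =>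
        obtain ⟨a, ha, z, hz, rfl⟩ := hu
        obtain ⟨b, hb, z', hz', rfl⟩ := hw
        refine ⟨a * b, mul_mem ha hb, z * z', mul_mem hz hz', ?_⟩
        calc a * b * (z * z') = a * (b * z) * z' := by group
          _ = a * (z * b) * z' := by rw [scal_comm ρ hρ hz b]
          _ = a * z * (b * z') := by group
      | inv u _ hu =>
        obtain ⟨a, ha, z, hz, rfl⟩ := hu
        exact ⟨a⁻¹, inv_mem ha, z⁻¹, inv_mem hz, by
          rw [_root_.mul_inv_rev, scal_comm ρ hρ (inv_mem hz) a⁻¹]⟩
    exact reg_mul (scal_comm ρ hρ hz a) (hfreg a ha) (reg_of_mem_scal ρ hρ hz)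
  · have h1 : P.index ≤ B * B := Subgroup.index_inf_le.trans (Nat.mul_le_mul hP1 hP2)
    refine (Subgroup.relIndex_le_of_le_left (le_sup_left : f.range ≤ f.range ⊔ scal ρ)
      (fun h => Subgroup.index_ne_zero_of_finite h)).trans ?_
    have hr : Nat.card C = (P.index * Nat.card f.ker) * Nat.card f.range := by
      rw [mul_assoc, ← Subgroup.index_ker f, mul_comm (Nat.card f.ker), Subgroup.index_mul_card,
        Subgroup.index_mul_card]
    have hr2 := (f.range.subgroupOf C).index_mul_card
    rw [Nat.card_congr (Subgroup.subgroupOfEquivOfLe hQC).toEquiv, hr] at hr2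
    have hrel : f.range.relIndex C = P.index * Nat.card f.ker :=
      Nat.eq_of_mul_eq_mul_right (Nat.card_pos (α := f.range)) hr2
    rw [hrel]
    exact Nat.mul_le_mul h1 hkcard

/-- The elements moving `y` by a scalar contain the centraliser with index at most `dim V`. -/
theorem card_scal_commutator_le [Finite G] (ρ : Representation k G V) (hρ : Function.Injective ρ)
    {y : G} (hy : Reg p y) (S : Subgroup G) (hS : ∀ g ∈ S, g * y * g⁻¹ * y⁻¹ ∈ scal ρ) :
    (centralizer ({y} : Set G)).relIndex S ≤ max 1 (finrank k V) := by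
  classical
  rcases subsingleton_or_nontrivial V with hV | hV
  · refine le_trans (le_of_eq ?_) (le_max_left _ _)
    rw [Subgroup.relIndex_eq_one]
    intro g _
    exact mem_centralizer_singleton_iff.2 (hρ (LinearMap.ext fun v => Subsingleton.elim _ _))
  refine le_trans ?_ (le_max_right _ _)
  have hA : ∀ a b : Subgroup.zpowers y, a * b = b * a := fun a b => mul_comm' a b
  have hreg : ∀ a : Subgroup.zpowers y, Reg p a := fun a hd =>
    hy (hd.trans ((orderOf_dvd_natCard a).trans (dvd_of_eq (Nat.card_zpowers y))))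
  obtain ⟨s, hs, hmem, -⟩ := exists_chars (p := p) (k := k) hA hreg V (ρ.comp (Subgroup.zpowers y).subtype)
  obtain ⟨c₀, hc₀⟩ := Module.End.exists_eigenvalue (ρ y)
  obtain ⟨v₀, hv₀⟩ := hc₀.exists_hasEigenvector
  let Ev := {c : k // ∃ v : V, v ≠ 0 ∧ ρ y v = c • v}
  have hEv : ∀ c : Ev, ∃ χ : s, (χ : Subgroup.zpowers y → k) ⟨y, Subgroup.mem_zpowers y⟩ = c.1 := by
    rintro ⟨c, v, hv, hvc⟩
    have hc0 : c ≠ 0 := by
      intro h0
      refine hv ?_
      have h := congrArg (ρ y⁻¹) hvc
      rwa [← Module.End.mul_apply, ← map_mul, inv_mul_cancel, map_one, Module.End.one_apply, h0,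
        zero_smul, map_zero] at h
    have hall : ∀ a : Subgroup.zpowers y, ∃ d : k, ρ (a : G) v = d • v := by
      intro a
      obtain ⟨j, hj⟩ := mem_powers_iff_mem_zpowers.2 a.2
      refine ⟨c ^ j, ?_⟩
      rw [← hj]
      clear hj
      induction j with
      | zero => simp
      | succ j ih =>
        show ρ (y ^ (j + 1)) v = _
        rw [pow_succ', map_mul, Module.End.mul_apply, show ρ (y ^ j) v = c ^ j • v from ih, map_smul, hvc,
          smul_smul, pow_succ]
    choose χ hχ using hall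
    refine ⟨⟨χ, (hmem χ).2 ⟨v, hv, hχ⟩⟩, ?_⟩
    have h := hχ ⟨y, Subgroup.mem_zpowers y⟩
    have h3 : (c - χ ⟨y, Subgroup.mem_zpowers y⟩) • v = 0 := by rw [sub_smul, ← h, ← hvc, sub_self]
    exact (sub_eq_zero.1 ((smul_eq_zero.1 h3).resolve_right hv)).symm
  choose η hη using hEv
  have hmove : ∀ g ∈ S, ∃ c : Ev, ρ (g * y * g⁻¹) (ρ g v₀) = c₀ • ρ g v₀ ∧ ρ y (ρ g v₀) = c.1 • ρ g v₀ := by
    intro g hg
    have h1 : ρ (g * y * g⁻¹) (ρ g v₀) = c₀ • ρ g v₀ := by
      rw [← Module.End.mul_apply, ← map_mul, show g * y * g⁻¹ * g = g * y by group, map_mul,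
        Module.End.mul_apply, hv₀.apply_eq_smul, map_smul]
    obtain ⟨d, hd0, hd⟩ := hS g hg
    have h2 : ρ y (ρ g v₀) = (d⁻¹ * c₀) • ρ g v₀ := by
      have h := h1
      rw [show g * y * g⁻¹ = (g * y * g⁻¹ * y⁻¹) * y by group, map_mul, Module.End.mul_apply, hd] at h
      rw [← smul_smul, ← h, smul_smul, inv_mul_cancel₀ hd0, one_smul]
    exact ⟨⟨_, ρ g v₀, fun e => hv₀.2 (by
      have := congrArg (ρ g⁻¹) e
      rwa [← Module.End.mul_apply, ← map_mul, inv_mul_cancel, map_one, map_zero] at this), h2⟩, h1, h2⟩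
  choose c hc1 hc2 using hmove
  have hinj : ∀ g (hg : g ∈ S) h (hh : h ∈ S), c g hg = c h hh → g⁻¹ * h ∈ centralizer ({y} : Set G) := by
    intro g hg h hh e
    have key : ∀ g (hg : g ∈ S), ∀ v, ρ (g * y * g⁻¹) v = (c₀ * ((c g hg).1)⁻¹) • ρ y v := by
      intro g hg v
      obtain ⟨d, hd0, hd⟩ := hS g hg
      have hne : ρ g v₀ ≠ 0 := fun e => hv₀.2 (by
        have := congrArg (ρ g⁻¹) e
        rwa [← Module.End.mul_apply, ← map_mul, inv_mul_cancel, map_one, map_zero] at this)
      have hw : ∀ v, ρ (g * y * g⁻¹) v = d • ρ y v := fun v => by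
        rw [show g * y * g⁻¹ = (g * y * g⁻¹ * y⁻¹) * y by group, map_mul, Module.End.mul_apply, hd]
      have h3 : (d * (c g hg).1 - c₀) • ρ g v₀ = 0 := by
        rw [sub_smul, mul_smul, ← hc2 g hg, ← hw, hc1 g hg, sub_self]
      have h4 := sub_eq_zero.1 ((smul_eq_zero.1 h3).resolve_right hne)
      have hcg : (c g hg).1 ≠ 0 := fun h0 => hne (by
        have h5 := congrArg (ρ y⁻¹) (hc2 g hg)
        rwa [← Module.End.mul_apply, ← map_mul, inv_mul_cancel, map_one, Module.End.one_apply, h0,
          zero_smul, map_zero] at h5)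
      rw [hw, ← h4, mul_assoc, mul_inv_cancel₀ hcg, mul_one]
    have h1 : g * y * g⁻¹ = h * y * h⁻¹ := hρ (LinearMap.ext fun v => by rw [key g hg, key h hh, e])
    rw [mem_centralizer_singleton_iff]
    calc g⁻¹ * h * y = g⁻¹ * (h * y * h⁻¹) * h := by group
      _ = y * (g⁻¹ * h) := by rw [← h1]; group
  have hcard : Nat.card (S ⧸ (centralizer ({y} : Set G)).subgroupOf S) ≤ Nat.card s := by
    refine Nat.card_le_card_of_injective (fun q => η (c _ q.out.2)) fun q r h => ?_
    have h' : c _ q.out.2 = c _ r.out.2 := Subtype.ext (by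
      have h1 := hη (c _ q.out.2)
      have h2 := hη (c _ r.out.2)
      rw [← h1, ← h2]; exact congrArg (fun χ : s => (χ : Subgroup.zpowers y → k) _) h)
    rw [← QuotientGroup.out_eq' q, ← QuotientGroup.out_eq' r]
    exact QuotientGroup.eq.2 (hinj _ q.out.2 _ r.out.2 h')
  refine le_trans hcard ?_
  rw [Nat.card_eq_finsetCard]
  exact hs

end CfsgLib.LinJordan
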