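import Cfsg.Agent.LinJordan.Stable
import Cfsg.Agent.FGSB.FrobeniusCount
import Mathlib.Algebra.Order.BigOperators.Group.Multiset
import Mathlib.Algebra.Order.Field.Rat
import Mathlib.Data.Rat.Cast.Lemmas
import Mathlib.Tactic.FieldSimp
import Mathlib.Tactic.Positivity

/-!
The count of `p`-regular elements: a finite linear group has an abelian normal subgroup of bounded index,
by an equation with a bounded number of unit fractions.
-/

set_option autoImplicit false
set_option linter.unusedSectionVars false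
set_option linter.style.haveILetI false

namespace CfsgLib.LinJordan

open MulAction

universe u

/-- A sum over a finite action, orbit by orbit. -/
theorem orbit_sum {G X : Type*} [Group G] [MulAction G X] [Fintype X]
    [Fintype (Quotient (orbitRel G X))] (f : X → ℚ) (hf : ∀ (g : G) (x : X), f (g • x) = f x) :
    ∑ x, f x = ∑ ω : Quotient (orbitRel G X), ((stabilizer G ω.out).index : ℚ) * f ω.out := by
  classical
  rw [← (selfEquivSigmaOrbits G X).symm.sum_comp, Fintype.sum_sigma]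
  refine Finset.sum_congr rfl fun ω _ => ?_
  have hconst : ∀ y : orbit G ω.out, f ((selfEquivSigmaOrbits G X).symm ⟨ω, y⟩) = f ω.out := by
    rintro ⟨y, g, rfl⟩
    exact hf g _
  rw [Finset.sum_congr rfl fun y _ => hconst y, Finset.sum_const, nsmul_eq_mul, Finset.card_univ,
    index_stabilizer, ← Nat.card_coe_set_eq, Nat.card_eq_fintype_card]

/-- A bounded number of unit fractions and a fraction of bounded denominator equal to a unit fraction. -/
theorem egyptian : ∀ R L : ℕ, 0 < L → ∃ F, ∀ g : ℕ, 0 < g → ∀ (z : ℤ) (s : Multiset ℕ),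
    Multiset.card s ≤ R → (∀ b ∈ s, 0 < b ∧ b ≤ g) →
    (z : ℚ) / L + (s.map fun b : ℕ => (b : ℚ)⁻¹).sum = (g : ℚ)⁻¹ → g ≤ F ∨ g ∈ s := by
  intro R
  induction R using Nat.strong_induction_on with
  | _ R ih =>
    intro L hL
    have hex : ∀ b : ℕ, ∃ F, 0 < R → 0 < b → ∀ g : ℕ, 0 < g → ∀ (z : ℤ) (s : Multiset ℕ),
        Multiset.card s ≤ R - 1 → (∀ b' ∈ s, 0 < b' ∧ b' ≤ g) →
        (z : ℚ) / ((L * b : ℕ) : ℚ) + (s.map fun b : ℕ => (b : ℚ)⁻¹).sum = (g : ℚ)⁻¹ → g ≤ F ∨ g ∈ s := by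
      intro b
      by_cases hb : 0 < R ∧ 0 < b
      · obtain ⟨F, hF⟩ := ih (R - 1) (by omega) (L * b) (Nat.mul_pos hL hb.2)
        exact ⟨F, fun _ _ => hF⟩
      · exact ⟨0, fun h1 h2 => absurd ⟨h1, h2⟩ hb⟩
    choose F' hF' using hex
    refine ⟨L + ∑ b ∈ Finset.range (R * L + 1), F' b, fun g hg z s hs hsb heq => ?_⟩
    have hgq : (0 : ℚ) < g := Nat.cast_pos.2 hg
    have hLq : (0 : ℚ) < L := Nat.cast_pos.2 hL
    have hsum : 0 ≤ (s.map fun b : ℕ => (b : ℚ)⁻¹).sum := by
      refine Multiset.sum_nonneg fun x hx => ?_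
      obtain ⟨b, -, rfl⟩ := Multiset.mem_map.1 hx
      positivity
    rcases lt_trichotomy z 0 with hz | hz | hz
    · obtain ⟨b, hbs, hbR⟩ : ∃ b ∈ s, b ≤ R * L := by
        by_contra hall
        push_neg at hall
        have h1 : (s.map fun b : ℕ => (b : ℚ)⁻¹).sum ≤
            Multiset.card (s.map fun b : ℕ => (b : ℚ)⁻¹) • ((R * L + 1 : ℕ) : ℚ)⁻¹ := by
          refine Multiset.sum_le_card_nsmul _ _ fun x hx => ?_
          obtain ⟨b, hb, rfl⟩ := Multiset.mem_map.1 hx
          exact inv_anti₀ (by positivity) (by exact_mod_cast hall b hb)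
        rw [Multiset.card_map, nsmul_eq_mul] at h1
        have h2 : (Multiset.card s : ℚ) * ((R * L + 1 : ℕ) : ℚ)⁻¹ < (L : ℚ)⁻¹ := by
          rw [inv_eq_one_div, inv_eq_one_div, mul_one_div, div_lt_div_iff₀ (by positivity) hLq, one_mul]
          have : Multiset.card s * L < R * L + 1 := Nat.lt_succ_of_le (Nat.mul_le_mul_right L hs)
          exact_mod_cast this
        have h3 : (L : ℚ)⁻¹ ≤ -((z : ℚ) / L) := by
          rw [← neg_div, inv_eq_one_div, div_le_div_iff_of_pos_right hLq]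
          exact_mod_cast (show (1 : ℤ) ≤ -z by omega)
        have : (0 : ℚ) < (g : ℚ)⁻¹ := inv_pos.2 hgq
        linarith
      have hb0 := (hsb b hbs).1
      have hR : 0 < R := by
        rcases Nat.eq_zero_or_pos R with h | h
        · rw [h, zero_mul] at hbR; omega
        · exact h
      have hle : F' b ≤ ∑ b ∈ Finset.range (R * L + 1), F' b :=
        Finset.single_le_sum (fun _ _ => Nat.zero_le _) (Finset.mem_range.2 (by omega))
      rw [← Multiset.cons_erase hbs, Multiset.map_cons, Multiset.sum_cons, ← add_assoc] at heq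
      have hb : (b : ℚ) ≠ 0 := (Nat.cast_pos.2 hb0).ne'
      have e : (z : ℚ) / L + (b : ℚ)⁻¹ = ((z * b + L : ℤ) : ℚ) / ((L * b : ℕ) : ℚ) := by
        push_cast
        field_simp
      rw [e] at heq
      rcases hF' b hR hb0 g hg _ (s.erase b)
        (by rw [Multiset.card_erase_of_mem hbs]; exact Nat.sub_le_sub_right hs 1)
        (fun b' hb' => hsb b' (Multiset.mem_of_mem_erase hb')) heq with h | h
      · exact Or.inl (by omega)
      · exact Or.inr (Multiset.mem_of_mem_erase h)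
    · subst hz
      rw [Int.cast_zero, zero_div, zero_add] at heq
      obtain ⟨b, hb⟩ : ∃ b, b ∈ s := by
        refine Multiset.exists_mem_of_ne_zero fun h => ?_
        rw [h, Multiset.map_zero, Multiset.sum_zero] at heq
        exact (inv_pos.2 hgq).ne heq
      have h1 : (b : ℚ)⁻¹ ≤ (g : ℚ)⁻¹ := by
        rw [← heq, ← Multiset.cons_erase hb, Multiset.map_cons, Multiset.sum_cons]
        refine le_add_of_nonneg_right (Multiset.sum_nonneg fun x hx => ?_)
        obtain ⟨c, -, rfl⟩ := Multiset.mem_map.1 hx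
        positivity
      rw [inv_le_inv₀ (Nat.cast_pos.2 (hsb b hb).1) hgq, Nat.cast_le] at h1
      exact Or.inr ((le_antisymm (hsb b hb).2 h1) ▸ hb)
    · refine Or.inl (le_trans ?_ (Nat.le_add_right _ _))
      have h1 : (L : ℚ)⁻¹ ≤ (g : ℚ)⁻¹ := by
        rw [← heq]
        refine le_add_of_le_of_nonneg ?_ hsum
        rw [inv_eq_one_div, div_le_div_iff_of_pos_right hLq]
        exact_mod_cast (show (1 : ℤ) ≤ z by omega)
      rw [inv_le_inv₀ hLq hgq, Nat.cast_le] at h1
      exact h1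

theorem frac_mem {L d : ℕ} (hL : 0 < L) (hd : d ∣ L) (c : ℕ) :
    (c : ℚ) / d ∈ AddSubgroup.zmultiples ((L : ℚ)⁻¹) := by
  obtain ⟨e, rfl⟩ := hd
  have hd0 : (d : ℚ) ≠ 0 := Nat.cast_ne_zero.2 (Nat.pos_of_mul_pos_right hL).ne'
  have he0 : (e : ℚ) ≠ 0 := Nat.cast_ne_zero.2 (Nat.pos_of_mul_pos_left hL).ne'
  refine AddSubgroup.mem_zmultiples_iff.2 ⟨((c * e : ℕ) : ℤ), ?_⟩
  rw [zsmul_eq_mul]
  push_cast
  field_simp

namespace Setup

open Subgroup

variable {G : Type u} [Group G] [Finite G] {p N K E D₀ : ℕ} [hp : Fact p.Prime] {Z : Subgroup G}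
  {d : Subgroup G → ℕ} (H : Setup G p N K E D₀ Z d)

include H

theorem map_conj_attached (g : G) {A : Subgroup G} {y : G} (hy : y ∈ attached p N Z A) :
    g * y * g⁻¹ ∈ attached p N Z (A.map (MulAut.conj g).toMonoidHom) := by
  obtain ⟨hyr, hyZ, D, hD, rfl, hDy⟩ := hy
  refine ⟨reg_map (MulAut.conj g).toMonoidHom hyr, fun h => hyZ ?_, D.map (MulAut.conj g).toMonoidHom,
    map_stable _ (H.map_conj_scalars g) hD, (H.conj_cls g D).symm, ?_⟩
  · have h' := H.central _ h g
    rw [show g * (g * y * g⁻¹) = (g * y * g⁻¹) * g ↔ g * y * g⁻¹ = y from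
      ⟨fun e => by
        calc g * y * g⁻¹ = g⁻¹ * (g * (g * y * g⁻¹)) := by group
          _ = g⁻¹ * ((g * y * g⁻¹) * g) := by rw [e]
          _ = y := by group,
        fun e => by rw [e]; calc g * y = (g * y * g⁻¹) * g := by group
          _ = y * g := by rw [e]⟩] at h'
    exact h' ▸ h
  · rintro - ⟨x, hx, rfl⟩
    rw [mem_centralizer_singleton_iff]
    show g * x * g⁻¹ * (g * y * g⁻¹) = g * y * g⁻¹ * (g * x * g⁻¹)
    calc g * x * g⁻¹ * (g * y * g⁻¹) = g * (x * y) * g⁻¹ := by group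
      _ = g * (y * x) * g⁻¹ := by rw [mem_centralizer_singleton_iff.1 (hDy hx)]
      _ = _ := by group

theorem mul_scalar_attached {z : G} (hz : z ∈ Z) {A : Subgroup G} {y : G}
    (hy : y ∈ attached p N Z A) : y * z ∈ attached p N Z A := by
  obtain ⟨hyr, hyZ, D, hD, hA, hDy⟩ := hy
  refine ⟨reg_mul (H.central z hz y) hyr (H.zreg z hz), fun h => hyZ ?_, D, hD, hA, fun x hx => ?_⟩
  · have := Z.mul_mem h (Z.inv_mem hz)
    rwa [mul_inv_cancel_right] at this
  · rw [mem_centralizer_singleton_iff, ← mul_assoc, mem_centralizer_singleton_iff.1 (hDy hx),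
      mul_assoc, H.central z hz x, ← mul_assoc]

/-- The index of a normal abelian subgroup is bounded by a function of the parameters. -/
theorem exists_normal_abelian_aux {m F : ℕ} (hm : (Nat.card G).factorization p ≤ m)
    (hF : ∀ g : ℕ, 0 < g → ∀ (z : ℤ) (s : Multiset ℕ),
      Multiset.card s ≤ 2 * (K * (N * N ^ (D₀ + 1))) → (∀ b ∈ s, 0 < b ∧ b ≤ g) →
      (z : ℚ) / ((p ^ m * (N ^ (D₀ + 1) * N * E).factorial * (K * (N * N ^ (D₀ + 1))).factorial : ℕ) : ℚ)
        + (s.map fun b : ℕ => (b : ℚ)⁻¹).sum = (g : ℚ)⁻¹ → g ≤ F ∨ g ∈ s) :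
    ∃ A : Subgroup G, A.Normal ∧ (∀ a ∈ A, ∀ b ∈ A, a * b = b * a) ∧
      A.index ≤ max F (K * (N * N ^ (D₀ + 1))) := by
  classical
  haveI := Fintype.ofFinite G
  set K' := K * (N * N ^ (D₀ + 1)) with hK'
  set M := N ^ (D₀ + 1) * N with hM
  set L := p ^ m * (M * E).factorial * K'.factorial with hL
  have hLpos : 0 < L := Nat.mul_pos (Nat.mul_pos (pow_pos hp.out.pos _) (Nat.factorial_pos _))
    (Nat.factorial_pos _)
  let z := Nat.card Z
  let g := Z.index
  have hzpos : 0 < z := Nat.card_pos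
  have hgpos : 0 < g := Nat.pos_of_ne_zero Subgroup.index_ne_zero_of_finite
  have hG : Nat.card G = z * g := Z.card_mul_index.symm
  -- the class subgroups
  let Cl := {A : Subgroup G // ∃ D, Stable p N Z D ∧ cls p N Z D = A}
  haveI : Fintype Cl := Fintype.ofFinite Cl
  letI actC : MulAction G Cl :=
    { smul := fun x A => ⟨A.1.map (MulAut.conj x).toMonoidHom, by
        obtain ⟨D, hD, hA⟩ := A.2
        exact ⟨_, map_stable _ (H.map_conj_scalars x) hD, by rw [← H.conj_cls x D, hA]⟩⟩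
      one_smul := fun A => Subtype.ext (by
        show A.1.map (MulAut.conj (1 : G)).toMonoidHom = A.1
        rw [map_one]; exact Subgroup.map_id _)
      mul_smul := fun x y A => Subtype.ext (by
        show A.1.map (MulAut.conj (x * y)).toMonoidHom =
          (A.1.map (MulAut.conj y).toMonoidHom).map (MulAut.conj x).toMonoidHom
        rw [Subgroup.map_map, map_mul]; rfl) }
  have hgoodC : ∀ A : Cl, Good p Z A.1 := fun A => by
    obtain ⟨D, hD, hA⟩ := A.2; exact hA ▸ H.cls_good hD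
  let U : Cl → Set G := fun A => {y | y ∈ attached p N Z A.1 ∨ y ∈ A.1}
  let j : Cl → ℕ := fun A => Nat.card ((QuotientGroup.mk : G → G ⧸ A.1) '' U A)
  let b : Cl → ℕ := fun A => Z.relIndex (normalizer (A.1 : Set G))
  let nn : Cl → ℕ := fun A => A.1.relIndex (normalizer (A.1 : Set G))
  have hU : ∀ A : Cl, Nat.card (U A) = j A * Nat.card A.1 := by
    intro A
    obtain ⟨D, hD, hA⟩ := A.2
    have hpre : (QuotientGroup.mk : G → G ⧸ A.1) ⁻¹' ((QuotientGroup.mk : G → G ⧸ A.1) '' U A) = U A := by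
      refine Set.Subset.antisymm ?_ (Set.subset_preimage_image _ _)
      rintro x ⟨y, hy, hyx⟩
      have hmem : y⁻¹ * x ∈ A.1 := QuotientGroup.eq.1 hyx
      have := H.attached_coset hD (y := y) (a := y⁻¹ * x) (by rw [hA]; exact hy) (by rw [hA]; exact hmem)
      rw [mul_inv_cancel_left, hA] at this
      exact this
    conv_lhs => rw [← hpre]
    rw [Nat.card_congr (QuotientGroup.preimageMkEquivSubgroupProdSet A.1 _), Nat.card_prod, mul_comm]
  have hatt : ∀ A : Cl, Nat.card (attached p N Z A.1) + z = Nat.card (U A) := by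
    intro A
    obtain ⟨D, hD, hA⟩ := A.2
    have hdis : Disjoint (attached p N Z A.1) (Z : Set G) :=
      Set.disjoint_left.2 fun y hy hy' => hy.2.1 hy'
    have heq : attached p N Z A.1 ∪ (Z : Set G) = U A := by
      ext y
      constructor
      · rintro (h | h)
        · exact Or.inl h
        · exact Or.inr ((hgoodC A).le h)
      · rintro (h | h)
        · exact Or.inl h
        · by_cases hy : y ∈ Z
          · exact Or.inr hy
          · refine Or.inl ?_
            rw [← hA] at h ⊢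
            exact H.mem_attached_of_mem hD h hy
    rw [← heq, Nat.card_coe_set_eq, Nat.card_coe_set_eq, Set.ncard_union_eq hdis (Set.toFinite _)
      (Set.toFinite _), ← Nat.card_coe_set_eq (Z : Set G)]
    rfl
  have hjpos : ∀ A : Cl, 0 < j A := fun A => by
    haveI : Nonempty ((QuotientGroup.mk : G → G ⧸ A.1) '' U A) :=
      ⟨⟨_, 1, Or.inr A.1.one_mem, rfl⟩⟩
    exact Nat.card_pos
  have hnpos : ∀ A : Cl, 0 < nn A := fun A =>
    Nat.pos_of_ne_zero Subgroup.index_ne_zero_of_finite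
  have hnK : ∀ A : Cl, nn A ≤ K' := fun A => by
    obtain ⟨D, hD, hA⟩ := A.2
    have := H.cls_index_le hD
    rwa [hA] at this
  have ha2 : ∀ A : Cl, 2 ≤ Z.relIndex A.1 := fun A => by
    obtain ⟨D, hD, hA⟩ := A.2
    have h1 : D ≤ A.1 := hA ▸ le_cls hD (com_self hD)
    have := hD.big.trans_le (Subgroup.relIndex_le_of_le_right h1 (fun h => Nat.card_pos.ne' h))
    have := H.npos
    omega
  have hb : ∀ A : Cl, b A = nn A * Z.relIndex A.1 := fun A => by
    rw [mul_comm]
    exact (relIndex_mul_relIndex Z A.1 _ (hgoodC A).le le_normalizer).symm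
  have hcardA : ∀ A : Cl, Nat.card A.1 = z * Z.relIndex A.1 := fun A => by
    have h := relIndex_mul_relIndex ⊥ Z A.1 bot_le (hgoodC A).le
    rw [relIndex_bot_left, relIndex_bot_left] at h
    exact h.symm
  have hstab : ∀ A : Cl, stabilizer G A = normalizer (A.1 : Set G) := by
    intro A
    ext x
    rw [MulAction.mem_stabilizer_iff, mem_normalizer_iff]
    constructor
    · intro h y
      have h' : A.1.map (MulAut.conj x).toMonoidHom = A.1 := congrArg Subtype.val h
      conv_rhs => rw [← h']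
      exact (mem_map_iff_mem (f := (MulAut.conj x).toMonoidHom) (MulAut.conj x).injective).symm
    · intro h
      refine Subtype.ext (Subgroup.ext fun y => ?_)
      show y ∈ A.1.map (MulAut.conj x).toMonoidHom ↔ y ∈ A.1
      constructor
      · rintro ⟨w, hw, rfl⟩
        exact (h w).1 hw
      · intro hy
        refine ⟨x⁻¹ * y * x, (h _).2 ?_, show x * (x⁻¹ * y * x) * x⁻¹ = y by group⟩
        rwa [show x * (x⁻¹ * y * x) * x⁻¹ = y by group]
  have hbg : ∀ A : Cl, (stabilizer G A).index * b A = g := fun A => by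
    rw [hstab, mul_comm]
    exact relIndex_mul_index ((hgoodC A).le.trans le_normalizer)
  have hinv : ∀ (x : G) (A : Cl), Nat.card (attached p N Z (x • A).1) = Nat.card (attached p N Z A.1) := by
    have key : ∀ (x : G) (A : Cl),
        Nat.card (attached p N Z A.1) ≤ Nat.card (attached p N Z (x • A).1) := by
      intro x A
      refine Nat.card_le_card_of_injective (fun y => ⟨x * y.1 * x⁻¹, H.map_conj_attached x y.2⟩) ?_
      intro y y' h
      exact Subtype.ext (mul_left_cancel (mul_right_cancel (congrArg Subtype.val h)))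
    intro x A
    refine le_antisymm ?_ (key x A)
    have := key x⁻¹ (x • A)
    rwa [inv_smul_smul] at this
  -- the small elements
  let Sm := {y : G // Reg p y ∧ y ∉ Z ∧ ∀ A, y ∉ attached p N Z A}
  have hSm : ∀ (x : G × Z) (y : Sm), Reg p (x.1 * y.1 * x.1⁻¹ * x.2) ∧ x.1 * y.1 * x.1⁻¹ * x.2 ∉ Z ∧
      ∀ A, x.1 * y.1 * x.1⁻¹ * x.2 ∉ attached p N Z A := by
    rintro ⟨x, w, hw⟩ ⟨y, hy, hyZ, hyA⟩
    have hyx : x * y * x⁻¹ ∉ Z := fun h => hyZ (by
      have h' := H.central _ h x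
      have e : x * y * x⁻¹ = y := by
        calc x * y * x⁻¹ = x⁻¹ * (x * (x * y * x⁻¹)) := by group
          _ = x⁻¹ * ((x * y * x⁻¹) * x) := by rw [h']
          _ = y := by group
      exact e ▸ h)
    refine ⟨reg_mul (H.central w hw _) (reg_map (MulAut.conj x).toMonoidHom hy) (H.zreg w hw),
      fun h => hyx (by simpa using Z.mul_mem h (Z.inv_mem hw)), fun A h => ?_⟩
    have h1 := H.mul_scalar_attached (Z.inv_mem hw) h
    rw [mul_inv_cancel_right] at h1
    have h2 := H.map_conj_attached x⁻¹ h1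
    rw [show x⁻¹ * (x * y * x⁻¹) * x⁻¹⁻¹ = y by group] at h2
    exact hyA _ h2
  letI actS : MulAction (G × Z) Sm :=
    { smul := fun x y => ⟨x.1 * y.1 * x.1⁻¹ * x.2, hSm x y⟩
      one_smul := fun y => Subtype.ext (by
        show (1 : G) * y.1 * (1 : G)⁻¹ * ((1 : Z) : G) = y.1
        simp)
      mul_smul := fun x x' y => Subtype.ext (by
        show x.1 * x'.1 * y.1 * (x.1 * x'.1)⁻¹ * ((x.2 * x'.2 : Z) : G) =
          x.1 * (x'.1 * y.1 * x'.1⁻¹ * x'.2) * x.1⁻¹ * x.2
        have hc : ((x.2 * x'.2 : Z) : G) = (x'.2 : G) * x.2 :=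
          (H.central (x'.2 : G) x'.2.2 (x.2 : G))
        rw [hc]
        calc x.1 * x'.1 * y.1 * (x.1 * x'.1)⁻¹ * ((x'.2 : G) * x.2)
            = x.1 * (x'.1 * y.1 * x'.1⁻¹) * (x.1⁻¹ * (x'.2 : G)) * x.2 := by group
          _ = x.1 * (x'.1 * y.1 * x'.1⁻¹) * ((x'.2 : G) * x.1⁻¹) * x.2 := by
              rw [H.central _ x'.2.2 x.1⁻¹]
          _ = _ := by group) }
  have horb : ∀ y : Sm, ∃ h : ℕ, 0 < h ∧ h ≤ M * E ∧ (stabilizer (G × Z) y).index * h = g * z := by
    intro y
    let f : stabilizer (G × Z) y →* G := (MonoidHom.fst G Z).comp (stabilizer (G × Z) y).subtype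
    have hst : ∀ x : stabilizer (G × Z) y, x.1.1 * y.1 * x.1.1⁻¹ * (x.1.2 : G) = y.1 :=
      fun x => congrArg Subtype.val (MulAction.mem_stabilizer_iff.1 x.2)
    have hfi : Function.Injective f := by
      intro x x' h
      have h' : x.1.1 = x'.1.1 := h
      refine Subtype.ext (Prod.ext h' (Subtype.ext ?_))
      exact mul_left_cancel ((hst x).trans (by rw [h']; exact (hst x').symm))
    let C := centralizer ({y.1} : Set G)
    have hC : C ≤ f.range := by
      intro x hx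
      refine ⟨⟨(x, 1), MulAction.mem_stabilizer_iff.2 (Subtype.ext ?_)⟩, rfl⟩
      show x * y.1 * x⁻¹ * ((1 : Z) : G) = y.1
      rw [mem_centralizer_singleton_iff.1 hx, mul_inv_cancel_right, OneMemClass.coe_one, mul_one]
    have hZC : Z ≤ C := fun w hw => mem_centralizer_singleton_iff.2 (H.central w hw y.1).symm
    refine ⟨Z.relIndex f.range, Nat.pos_of_ne_zero Subgroup.index_ne_zero_of_finite, ?_, ?_⟩
    · rw [← relIndex_mul_relIndex Z C f.range hZC hC]
      refine Nat.mul_le_mul (H.small_centralizer y.2.1 y.2.2.1 y.2.2.2) (H.stab y.1 y.2.1 f.range ?_)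
      rintro - ⟨x, rfl⟩
      show x.1.1 * y.1 * x.1.1⁻¹ * y.1⁻¹ ∈ Z
      have e : x.1.1 * y.1 * x.1.1⁻¹ = y.1 * (x.1.2 : G)⁻¹ := eq_mul_inv_of_mul_eq (hst x)
      rw [e, H.central _ (Z.inv_mem x.1.2.2) y.1, mul_inv_cancel_right]
      exact Z.inv_mem x.1.2.2
    · have h1 : Nat.card f.range = z * Z.relIndex f.range := by
        have h := relIndex_mul_relIndex ⊥ Z f.range bot_le (hZC.trans hC)
        rw [relIndex_bot_left, relIndex_bot_left] at h
        exact h.symm
      have h2 := (stabilizer (G × Z) y).index_mul_card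
      rw [Nat.card_congr (MonoidHom.ofInjective hfi).toEquiv, h1, Nat.card_prod, hG] at h2
      apply Nat.eq_of_mul_eq_mul_left hzpos
      calc z * ((stabilizer (G × Z) y).index * Z.relIndex f.range)
          = (stabilizer (G × Z) y).index * (z * Z.relIndex f.range) := by ring
        _ = z * g * Nat.card Z := h2
        _ = z * (g * z) := by ring
  choose hh hhpos hhle hhidx using horb
  haveI : Fintype Sm := Fintype.ofFinite Sm
  haveI : Fintype (Quotient (orbitRel G Cl)) := Fintype.ofFinite _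
  haveI : Fintype (Quotient (orbitRel (G × Z) Sm)) := Fintype.ofFinite _
  -- Frobenius
  set a := (Nat.card G).factorization p with ha
  set q := Nat.card G / p ^ a with hq
  have hqa : p ^ a * q = Nat.card G := Nat.ordProj_mul_ordCompl_eq_self _ p
  have hreg : ∀ x : G, Reg p x ↔ x ^ q = 1 := by
    intro x
    rw [← orderOf_dvd_iff_pow_eq_one]
    constructor
    · intro hx
      exact ((reg_iff_coprime.1 hx).symm.pow_right a).dvd_of_dvd_mul_left (hqa ▸ orderOf_dvd_natCard x)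
    · intro hx hd
      exact Nat.not_dvd_ordCompl hp.out Nat.card_pos.ne' (hd.trans hx)
  obtain ⟨c, hc⟩ := CfsgLib.FrobCount.frobenius (G := G) (n := q) (Nat.ordCompl_dvd _ p)
  rw [← Nat.card_congr (Equiv.subtypeEquivRight hreg)] at hc
  have hdec : Nat.card {x : G // Reg p x} =
      z + Nat.card Sm + ∑ A : Cl, Nat.card (attached p N Z A.1) := by
    have hcard : ∀ (P : G → Prop), Nat.card {x // P x} = ∑ x : G, if P x then 1 else 0 := fun P => by
      rw [Nat.card_eq_fintype_card, Fintype.card_subtype, Finset.card_filter]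
    show _ = Nat.card {x : G // x ∈ Z} + _ + ∑ A : Cl, Nat.card {x : G // x ∈ attached p N Z A.1}
    rw [hcard, hcard, hcard, Finset.sum_congr rfl fun A _ => hcard _, Finset.sum_comm,
      ← Finset.sum_add_distrib, ← Finset.sum_add_distrib]
    refine Finset.sum_congr rfl fun x _ => ?_
    by_cases hxr : Reg p x
    · by_cases hxZ : x ∈ Z
      · rw [if_pos hxr, if_pos hxZ, if_neg (fun h => h.2.1 hxZ),
          Finset.sum_eq_zero fun A _ => if_neg (fun h => h.2.1 hxZ), add_zero, add_zero]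
      by_cases hxA : ∀ A, x ∉ attached p N Z A
      · rw [if_pos hxr, if_neg hxZ, if_pos ⟨hxr, hxZ, hxA⟩,
          Finset.sum_eq_zero fun A _ => if_neg (hxA _), zero_add, add_zero]
      push_neg at hxA
      obtain ⟨A₀, hA₀⟩ := hxA
      obtain ⟨-, -, D, hD, hDA, -⟩ := id hA₀
      rw [if_pos hxr, if_neg hxZ, if_neg (fun h => h.2.2 _ hA₀),
        Finset.sum_eq_single_of_mem (⟨A₀, D, hD, hDA⟩ : Cl) (Finset.mem_univ _)
          (fun A _ hne => if_neg fun h => hne (Subtype.ext (H.attached_unique h hA₀))),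
        if_pos hA₀]
    · rw [if_neg hxr, if_neg (fun h => hxr (H.zreg x h)), if_neg (fun h => hxr h.1),
        Finset.sum_eq_zero fun A _ => if_neg (fun h => hxr h.1), add_zero]
  have hgq : (g : ℚ) ≠ 0 := Nat.cast_ne_zero.2 hgpos.ne'
  have hzq : (z : ℚ) ≠ 0 := Nat.cast_ne_zero.2 hzpos.ne'
  let ωC := fun ω : Quotient (orbitRel G Cl) => ω.out
  let ωS := fun ω : Quotient (orbitRel (G × Z) Sm) => ω.out
  have hS : (Nat.card Sm : ℚ) = (z * g : ℚ) * ∑ ω, (hh (ωS ω) : ℚ)⁻¹ := by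
    rw [Nat.card_eq_fintype_card, Fintype.card_eq_sum_ones]
    push_cast
    rw [orbit_sum (G := G × Z) (fun _ : Sm => (1 : ℚ)) (fun _ _ => rfl), Finset.mul_sum]
    refine Finset.sum_congr rfl fun ω _ => ?_
    have h := congrArg (Nat.cast : ℕ → ℚ) (hhidx (ωS ω))
    push_cast at h
    have := Nat.cast_ne_zero (R := ℚ).2 (hhpos (ωS ω)).ne'
    rw [mul_one, eq_comm, ← div_eq_mul_inv, div_eq_iff this, h, mul_comm]
  have hC : (∑ A : Cl, (Nat.card (attached p N Z A.1) : ℚ)) =
      (z * g : ℚ) * ∑ ω, ((j (ωC ω) : ℚ) / nn (ωC ω) - (b (ωC ω) : ℚ)⁻¹) := by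
    rw [orbit_sum (G := G) (fun A : Cl => (Nat.card (attached p N Z A.1) : ℚ))
      (fun x A => by rw [hinv x A]), Finset.mul_sum]
    refine Finset.sum_congr rfl fun ω _ => ?_
    have h1 := congrArg (Nat.cast : ℕ → ℚ) ((hatt (ωC ω)).trans (hU (ωC ω)))
    have h2 := congrArg (Nat.cast : ℕ → ℚ) (hbg (ωC ω))
    have h3 := congrArg (Nat.cast : ℕ → ℚ) (hb (ωC ω))
    rw [hcardA] at h1
    push_cast at h1 h2 h3
    have hn : (nn (ωC ω) : ℚ) ≠ 0 := Nat.cast_ne_zero.2 (hnpos _).ne'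
    have hr : (Z.relIndex (ωC ω).1 : ℚ) ≠ 0 := Nat.cast_ne_zero.2 (by have := ha2 (ωC ω); omega)
    show ((stabilizer G (ωC ω)).index : ℚ) * (Nat.card (attached p N Z (ωC ω).1) : ℚ) = _
    rw [eq_sub_of_add_eq h1, ← h2, h3]
    field_simp
  have htot : (c : ℚ) / (p ^ a : ℕ) = (g : ℚ)⁻¹ + ∑ ω, (hh (ωS ω) : ℚ)⁻¹ +
      ∑ ω, ((j (ωC ω) : ℚ) / nn (ωC ω) - (b (ωC ω) : ℚ)⁻¹) := by
    have h1 := congrArg (Nat.cast : ℕ → ℚ) (hc.symm.trans hdec)
    have h2 := congrArg (Nat.cast : ℕ → ℚ) (hqa.trans hG)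
    push_cast at h1 h2 ⊢
    rw [hS, hC] at h1
    have hpa : ((p : ℚ) ^ a) ≠ 0 := pow_ne_zero _ (Nat.cast_ne_zero.2 hp.out.pos.ne')
    have hzg : (z : ℚ) * g ≠ 0 := mul_ne_zero hzq hgq
    apply mul_left_cancel₀ hzg
    rw [mul_add, mul_add, mul_inv_cancel_right₀ hgq, ← h1, ← h2]
    field_simp
  have hterm : ∀ A : Cl, (1 : ℚ) / (2 * K' : ℕ) ≤ (j A : ℚ) / nn A - (b A : ℚ)⁻¹ := by
    intro A
    have hn : (0 : ℚ) < nn A := Nat.cast_pos.2 (hnpos A)
    have hr : (2 : ℚ) ≤ Z.relIndex A.1 := by exact_mod_cast ha2 A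
    have hj : (1 : ℚ) ≤ j A := by exact_mod_cast hjpos A
    have hle : (1 : ℚ) / (2 * K' : ℕ) ≤ 1 / (2 * nn A) := by
      refine one_div_le_one_div_of_le (by positivity) ?_
      push_cast
      exact mul_le_mul_of_nonneg_left (by exact_mod_cast hnK A) zero_le_two
    refine hle.trans ?_
    rw [hb A]
    push_cast
    rw [le_sub_iff_add_le, inv_eq_one_div, div_add_div _ _ (by positivity) (by positivity),
      div_le_div_iff₀ (by positivity) hn]
    nlinarith [mul_nonneg hn.le (sub_nonneg.2 hr), mul_le_mul_of_nonneg_left hj (mul_nonneg hn.le hn.le),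
      mul_nonneg (mul_nonneg hn.le hn.le) (sub_nonneg.2 hj)]
  have hcount : Fintype.card (Quotient (orbitRel G Cl)) ≤ 2 * K' := by
    rcases isEmpty_or_nonempty (Quotient (orbitRel G Cl)) with he | ⟨⟨ω₀⟩⟩
    · simp
    have hK0 : 0 < 2 * K' := by
      have := hnpos (ωC ω₀); have := hnK (ωC ω₀); omega
    have h1 : (Fintype.card (Quotient (orbitRel G Cl)) : ℚ) * (1 / (2 * K' : ℕ)) ≤
        ∑ ω, ((j (ωC ω) : ℚ) / nn (ωC ω) - (b (ωC ω) : ℚ)⁻¹) := by
      have h := Finset.card_nsmul_le_sum (Finset.univ : Finset (Quotient (orbitRel G Cl)))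
        (fun ω => (j (ωC ω) : ℚ) / nn (ωC ω) - (b (ωC ω) : ℚ)⁻¹) _ fun ω _ => hterm (ωC ω)
      rwa [Finset.card_univ, nsmul_eq_mul] at h
    have h2 : (c : ℚ) / (p ^ a : ℕ) ≤ 1 := by
      rw [div_le_one (by exact_mod_cast pow_pos hp.out.pos a)]
      have h3 : q * c ≤ q * p ^ a := by
        rw [← hc, mul_comm q, hqa]
        exact Nat.card_le_card_of_injective (fun x : {x : G // Reg p x} => x.1) Subtype.val_injective
      exact_mod_cast Nat.le_of_mul_le_mul_left h3 (Nat.pos_of_ne_zero fun h => by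
        rw [h, mul_zero] at hqa; exact Nat.card_pos.ne hqa)
    have h3 : (0 : ℚ) ≤ ∑ ω, (hh (ωS ω) : ℚ)⁻¹ := Finset.sum_nonneg fun ω _ => by positivity
    have h4 : (0 : ℚ) ≤ (g : ℚ)⁻¹ := by positivity
    have h5 : (Fintype.card (Quotient (orbitRel G Cl)) : ℚ) * (1 / (2 * K' : ℕ)) ≤ 1 := by linarith
    rw [mul_one_div, div_le_one (by exact_mod_cast hK0)] at h5
    exact_mod_cast h5
  have hmem : (c : ℚ) / (p ^ a : ℕ) - ∑ ω, (hh (ωS ω) : ℚ)⁻¹ - ∑ ω, (j (ωC ω) : ℚ) / nn (ωC ω) ∈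
      AddSubgroup.zmultiples ((L : ℚ)⁻¹) := by
    refine sub_mem (sub_mem (frac_mem hLpos ?_ c) (sum_mem fun ω _ => ?_)) (sum_mem fun ω _ => ?_)
    · exact ((pow_dvd_pow p hm).trans (Dvd.intro _ rfl)).trans (Dvd.intro _ rfl)
    · have := frac_mem hLpos (d := hh (ωS ω)) (((Nat.dvd_factorial (hhpos _) (hhle _)).trans
        (Dvd.intro_left _ rfl)).trans (Dvd.intro _ rfl)) 1
      rwa [Nat.cast_one, one_div] at this
    · exact frac_mem hLpos ((Nat.dvd_factorial (hnpos _) (hnK _)).trans (Dvd.intro_left _ rfl)) _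
  obtain ⟨zz, hzz⟩ := AddSubgroup.mem_zmultiples_iff.1 hmem
  let s : Multiset ℕ := Finset.univ.val.map fun ω => b (ωC ω)
  have heq : (zz : ℚ) / L + (s.map fun b : ℕ => (b : ℚ)⁻¹).sum = (g : ℚ)⁻¹ := by
    rw [div_eq_mul_inv, ← zsmul_eq_mul, hzz, Multiset.map_map, htot, Finset.sum_sub_distrib]
    show _ + (∑ ω, (b (ωC ω) : ℚ)⁻¹) = _
    ring
  have hbs : ∀ e ∈ s, 0 < e ∧ e ≤ g := by
    intro e he
    obtain ⟨ω, -, rfl⟩ := Multiset.mem_map.1 he
    refine ⟨Nat.pos_of_ne_zero Subgroup.index_ne_zero_of_finite, Nat.le_of_dvd hgpos ?_⟩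
    exact Dvd.intro_left _ (hbg (ωC ω))
  have hscard : Multiset.card s ≤ 2 * K' := by
    rw [Multiset.card_map]; exact hcount
  rcases hF g hgpos zz s hscard hbs heq with hg' | hg'
  · refine ⟨Z, ⟨fun w hw x => ?_⟩, fun w hw v _ => (H.central w hw v).symm, hg'.trans (le_max_left _ _)⟩
    rwa [H.central w hw x, mul_inv_cancel_right]
  · obtain ⟨ω, -, hω⟩ := Multiset.mem_map.1 hg'
    have hidx := hbg (ωC ω)
    rw [hω] at hidx
    have htop : normalizer ((ωC ω).1 : Set G) = ⊤ := by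
      rw [← Subgroup.index_eq_one, ← hstab]
      exact Nat.eq_of_mul_eq_mul_right hgpos (by rw [hidx, one_mul])
    refine ⟨(ωC ω).1, normalizer_eq_top_iff.1 htop, (hgoodC _).comm, le_trans ?_ (le_max_right _ _)⟩
    rw [← relIndex_top_right, ← htop]
    exact hnK _

end Setup

theorem exists_bound (p : ℕ) [hp : Fact p.Prime] (m N K E D₀ : ℕ) :
    ∃ B : ℕ, ∀ (G : Type u) [Group G] [Finite G] (Z : Subgroup G) (d : Subgroup G → ℕ),
      Setup G p N K E D₀ Z d → (Nat.card G).factorization p ≤ m →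
      ∃ A : Subgroup G, A.Normal ∧ (∀ a ∈ A, ∀ b ∈ A, a * b = b * a) ∧ A.index ≤ B := by
  obtain ⟨F, hF⟩ := egyptian (2 * (K * (N * N ^ (D₀ + 1))))
    (p ^ m * (N ^ (D₀ + 1) * N * E).factorial * (K * (N * N ^ (D₀ + 1))).factorial)
    (Nat.mul_pos (Nat.mul_pos (pow_pos hp.out.pos _) (Nat.factorial_pos _)) (Nat.factorial_pos _))
  exact ⟨_, fun G _ _ Z d H hm => H.exists_normal_abelian_aux hm hF⟩

end CfsgLib.LinJordan
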