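import Cfsg.Agent.LinJordan.Count
import Mathlib.FieldTheory.IsAlgClosed.AlgebraicClosure
import Mathlib.LinearAlgebra.Dimension.Constructions
import Mathlib.LinearAlgebra.FreeModule.Finite.Matrix
import Mathlib.LinearAlgebra.Matrix.ToLin

/-!
Jordan's theorem in characteristic `p` (Brauer–Feit): a finite linear group of degree `n` with Sylow
`p`-subgroups of order at most `p ^ m` has an abelian normal subgroup of index bounded in `n`, `m`, `p`.
-/

set_option autoImplicit false
set_option linter.unusedSectionVars false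

namespace CfsgLib.LinJordan

open Module Subgroup

universe u v

variable {k : Type v} [Field k] {V : Type v} [AddCommGroup V] [Module k V] {G : Type u} [Group G]

/-- The linear maps commuting with the image of a subgroup. -/
def commutant (ρ : Representation k G V) (A : Subgroup G) : Submodule k (Module.End k V) where
  carrier := {T | ∀ a ∈ A, T * ρ a = ρ a * T}
  add_mem' := fun {S T} hS hT a ha => by rw [add_mul, mul_add, hS a ha, hT a ha]
  zero_mem' := fun a _ => by rw [zero_mul, mul_zero]
  smul_mem' := fun c T hT a ha => by rw [smul_mul_assoc, mul_smul_comm, hT a ha]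

theorem finrank_commutant_lt [FiniteDimensional k V] (ρ : Representation k G V)
    (hρ : Function.Injective ρ) {A B : Subgroup G} (h : A ≤ B)
    (hne : centralizer (A : Set G) ≠ centralizer (B : Set G)) :
    finrank k (commutant ρ B) < finrank k (commutant ρ A) := by
  refine Submodule.finrank_lt_finrank_of_lt (lt_of_le_of_ne (fun T hT a ha => hT a (h ha)) fun he => ?_)
  refine hne (le_antisymm (fun g hg => ?_) (centralizer_le h))
  have hmem : ρ g ∈ commutant ρ A := fun a ha => by
    rw [← map_mul, ← map_mul, mem_centralizer_iff.1 hg a ha]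
  rw [← he] at hmem
  refine mem_centralizer_iff.2 fun b hb => hρ ?_
  rw [map_mul, map_mul]
  exact (hmem b hb).symm

theorem exists_index_bound (p : ℕ) [hp : Fact p.Prime] (m : ℕ) : ∀ n : ℕ,
    ∃ B : ℕ, ∀ (G : Type u) [Group G] [Finite G] (k : Type v) [Field k] [CharP k p] [IsAlgClosed k]
      (V : Type v) [AddCommGroup V] [Module k V] [FiniteDimensional k V] (ρ : Representation k G V),
      Function.Injective ρ → finrank k V ≤ n → (Nat.card G).factorization p ≤ m →
      ∃ A : Subgroup G, A.Normal ∧ (∀ a ∈ A, ∀ b ∈ A, a * b = b * a) ∧ A.index ≤ B := by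
  intro n
  induction n with
  | zero =>
    refine ⟨1, fun G _ _ k _ _ _ V _ _ _ ρ hρ hn _ => ⟨⊤, inferInstance, fun a _ b _ => ?_, by simp⟩⟩
    haveI : Subsingleton V := finrank_zero_iff.1 (Nat.le_zero.1 hn)
    exact hρ (LinearMap.ext fun v => Subsingleton.elim _ _)
  | succ n ih =>
    obtain ⟨B', hB'⟩ := ih
    obtain ⟨B, hB⟩ := exists_bound.{u} p m (max 1 (B' * B' * p ^ m)) ((n + 1) ^ (n + 1)) (n + 1)
      ((n + 1) * (n + 1))
    refine ⟨B, fun G _ _ k _ _ _ V _ _ _ ρ hρ hn hm => ?_⟩
    refine hB G (scal ρ) (fun A => finrank k (commutant ρ A)) ?_ hm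
    refine
      { central := fun z hz g => scal_comm ρ hρ hz g
        zreg := fun z hz => reg_of_mem_scal ρ hρ hz
        npos := le_max_left _ _
        dle := fun A => (Submodule.finrank_le _).trans ?_
        dlt := fun A B h hne => finrank_commutant_lt ρ hρ h hne
        cent := fun y hy hys => ?_
        auto := fun A hA hreg => ?_
        stab := fun y hy S hS => ?_ }
    · rw [Module.finrank_linearMap]
      exact Nat.mul_le_mul hn hn
    · obtain ⟨A, h1, h2, h3, h4, h5⟩ := exists_abelian_centralizer ρ hρ hm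
        (fun H _ _ W _ _ _ σ hσ hd hmH => by
          obtain ⟨A, -, hA, hAi⟩ := hB' H k W σ hσ (by omega) hmH
          exact ⟨A, hA, hAi⟩) hy hys
      exact ⟨A, h1, h2, h3, h4, h5.trans (le_max_right _ _)⟩
    · refine (relIndex_centralizer_le ρ hρ A hA hreg).trans ?_
      rcases Nat.eq_zero_or_pos (finrank k V) with h | h
      · rw [h, pow_zero]; exact Nat.one_le_pow _ _ (Nat.succ_pos n)
      · exact (Nat.pow_le_pow_left hn _).trans (Nat.pow_le_pow_right (Nat.succ_pos n) hn)
    · exact (card_scal_commutator_le ρ hρ hy S hS).trans (max_le (Nat.succ_pos n) hn)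

/-- Extension of a matrix representation to the algebraic closure. -/
theorem exists_index_bound_fin (p : ℕ) [hp : Fact p.Prime] (m n : ℕ) :
    ∃ B : ℕ, ∀ (G : Type u) [Group G] [Finite G] (F : Type v) [Field F] [CharP F p]
      (ρ : Representation F G (Fin n → F)), Function.Injective ρ → (Nat.card G).factorization p ≤ m →
      ∃ A : Subgroup G, A.Normal ∧ (∀ a ∈ A, ∀ b ∈ A, a * b = b * a) ∧ A.index ≤ B := by
  obtain ⟨B, hB⟩ := exists_index_bound.{u, v} p m n
  refine ⟨B, fun G _ _ F _ _ ρ hρ hm => ?_⟩
  let k := AlgebraicClosure F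
  haveI : CharP k p := charP_of_injective_algebraMap (algebraMap F k).injective p
  let M : G →* Matrix (Fin n) (Fin n) F := MonoidHom.comp
    (LinearMap.toMatrixAlgEquiv' : Module.End F (Fin n → F) ≃ₐ[F] Matrix (Fin n) (Fin n) F).toMonoidHom ρ
  let ρ' : Representation k G (Fin n → k) := MonoidHom.comp
    (Matrix.toLinAlgEquiv' : Matrix (Fin n) (Fin n) k ≃ₐ[k] Module.End k (Fin n → k)).toMonoidHom
    ((algebraMap F k).mapMatrix.toMonoidHom.comp M)
  have hρ' : Function.Injective ρ' := fun g h e => hρ
    (LinearMap.toMatrixAlgEquiv'.injective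
      (Matrix.map_injective (algebraMap F k).injective (Matrix.toLinAlgEquiv'.injective e)))
  exact hB G k (Fin n → k) ρ' hρ' (by simp) hm

end CfsgLib.LinJordan
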