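import Cfsg.Agent.LinJordan.Basic

/-!
Stable abelian `p`-regular subgroups of a finite linear group: two of them centralised by one non-scalar
`p`-regular element commute, so their joins give a system of abelian subgroups meeting in scalars.
-/

set_option autoImplicit false
set_option linter.unusedSectionVars false

namespace CfsgLib.LinJordan

open Subgroup

universe u

variable {G : Type u} [Group G]

/-- What is used of the linear group: scalars, an antitone bounded weight that is strict on centralisers,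
and the three bounds. -/
structure Setup (G : Type u) [Group G] (p N K E D : ℕ) (Z : Subgroup G) (d : Subgroup G → ℕ) : Prop where
  central : ∀ z ∈ Z, ∀ g, g * z = z * g
  zreg : ∀ z ∈ Z, Reg p z
  npos : 1 ≤ N
  dle : ∀ A, d A ≤ D
  dlt : ∀ A B : Subgroup G, A ≤ B → centralizer (A : Set G) ≠ centralizer (B : Set G) → d B < d A
  cent : ∀ y, Reg p y → y ∉ Z → ∃ B : Subgroup G, Z ≤ B ∧ B ≤ centralizer ({y} : Set G) ∧
    (∀ a ∈ B, ∀ b ∈ B, a * b = b * a) ∧ (∀ a ∈ B, Reg p a) ∧
    B.relIndex (centralizer ({y} : Set G)) ≤ N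
  auto : ∀ A : Subgroup G, (∀ a ∈ A, ∀ b ∈ A, a * b = b * a) → (∀ a ∈ A, Reg p a) →
    (centralizer (A : Set G)).relIndex (normalizer (A : Set G)) ≤ K
  stab : ∀ y, Reg p y → ∀ S : Subgroup G, (∀ g ∈ S, g * y * g⁻¹ * y⁻¹ ∈ Z) →
    (centralizer ({y} : Set G)).relIndex S ≤ E

/-- Abelian `p`-regular subgroups over the scalars. -/
structure Good (p : ℕ) (Z D : Subgroup G) : Prop where
  le : Z ≤ D
  comm : ∀ a ∈ D, ∀ b ∈ D, a * b = b * a
  reg : ∀ a ∈ D, Reg p a

/-- Stable: large, and every subgroup of index at most `N` has the same centraliser. -/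
structure Stable (p N : ℕ) (Z D : Subgroup G) : Prop where
  good : Good p Z D
  big : N < Z.relIndex D
  same : ∀ D' : Subgroup G, D' ≤ D → Z ≤ D' → D'.relIndex D ≤ N →
    centralizer (D' : Set G) = centralizer (D : Set G)

/-- Elementwise commuting subgroups. -/
def Com (A B : Subgroup G) : Prop := ∀ a ∈ A, ∀ b ∈ B, a * b = b * a

/-- The join of the stable subgroups commuting with `D`. -/
def cls (p N : ℕ) (Z D : Subgroup G) : Subgroup G :=
  ⨆ E : {E : Subgroup G // Stable p N Z E ∧ Com D E}, (E : Subgroup G)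

/-- The `p`-regular non-scalar elements attached to the class subgroup `A`. -/
def attached (p N : ℕ) (Z A : Subgroup G) : Set G :=
  {y | Reg p y ∧ y ∉ Z ∧ ∃ D, Stable p N Z D ∧ cls p N Z D = A ∧ D ≤ centralizer ({y} : Set G)}

theorem Com.symm' {A B : Subgroup G} (h : Com A B) : Com B A := fun b hb a ha => (h a ha b hb).symm

namespace Setup

variable [Finite G] {p N K E D₀ : ℕ} [hp : Fact p.Prime] {Z : Subgroup G} {d : Subgroup G → ℕ}
  (H : Setup G p N K E D₀ Z d)

include H

theorem Stable.not_le {D : Subgroup G} (hD : Stable p N Z D) : ∃ x ∈ D, x ∉ Z := by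
  by_contra hall
  push_neg at hall
  have h := hD.big
  rw [Subgroup.relIndex_eq_one.2 hall] at h
  have := H.npos
  omega

/-- A large abelian subgroup has a stable one inside it, still large over `T`. -/
theorem exists_stable {B T : Subgroup G} (hB : Good p Z B) (hT : Z ≤ T)
    (hlarge : N ^ (D₀ + 1) < T.relIndex B) :
    ∃ D, D ≤ B ∧ Stable p N Z D ∧ N < T.relIndex D := by
  suffices h : ∀ j, ∀ B, Good p Z B → D₀ - d B ≤ j → N ^ (j + 1) < T.relIndex B →
      ∃ D, D ≤ B ∧ Stable p N Z D ∧ N < T.relIndex D from h D₀ B hB (Nat.sub_le _ _) hlarge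
  intro j
  induction j with
  | zero =>
    intro B hB hj hl
    rw [zero_add, pow_one] at hl
    refine ⟨B, le_rfl, ⟨hB, lt_of_lt_of_le hl (relIndex_le_of_le_left hT (fun h => ?_)), ?_⟩, hl⟩
    · exact Nat.card_pos.ne' h
    intro D' hD' _ _
    by_contra hne
    have := H.dlt D' B hD' hne
    have := H.dle D'
    omega
  | succ j ih =>
    intro B hB hj hl
    have hN : N ≤ N ^ (j + 1 + 1) := Nat.le_self_pow (by omega) N
    by_cases hs : ∀ D' : Subgroup G, D' ≤ B → Z ≤ D' → D'.relIndex B ≤ N →
        centralizer (D' : Set G) = centralizer (B : Set G)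
    · exact ⟨B, le_rfl, ⟨hB, lt_of_le_of_lt hN (lt_of_lt_of_le hl
        (relIndex_le_of_le_left hT (fun h => Nat.card_pos.ne' h))), hs⟩, lt_of_le_of_lt hN hl⟩
    push_neg at hs
    obtain ⟨D', hD', hZD', hi, hne⟩ := hs
    have hd := H.dlt D' B hD' hne
    have hgood : Good p Z D' :=
      ⟨hZD', fun a ha b hb => hB.comm a (hD' ha) b (hD' hb), fun a ha => hB.reg a (hD' ha)⟩
    have hl' : N ^ (j + 1) < T.relIndex D' := by
      have h1 : T.relIndex B ≤ (T ⊓ D').relIndex B :=
        relIndex_le_of_le_left inf_le_left (fun h => Nat.card_pos.ne' h)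
      rw [← relIndex_mul_relIndex (T ⊓ D') D' B inf_le_right hD', inf_relIndex_right] at h1
      by_contra hle
      push_neg at hle
      have h2 := Nat.mul_le_mul hle hi
      rw [← pow_succ] at h2
      omega
    obtain ⟨D, hD, hDs, hDl⟩ := ih D' hgood (by omega) hl'
    exact ⟨D, hD.trans hD', hDs, hDl⟩

/-- Two stable subgroups centralised by one non-scalar `p`-regular element commute. -/
theorem com_of_commute {y : G} (hy : Reg p y) (hyZ : y ∉ Z) {D F : Subgroup G} (hD : Stable p N Z D)
    (hF : Stable p N Z F) (hDy : D ≤ centralizer ({y} : Set G)) (hFy : F ≤ centralizer ({y} : Set G)) :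
    Com D F := by
  obtain ⟨B, hZB, hBy, hBc, -, hBi⟩ := H.cent y hy hyZ
  have key : ∀ X, Stable p N Z X → X ≤ centralizer ({y} : Set G) →
      centralizer ((X ⊓ B : Subgroup G) : Set G) = centralizer (X : Set G) := fun X hX hXy => by
    refine hX.same _ inf_le_left (le_inf hX.good.le hZB) ?_
    rw [inf_relIndex_left]
    exact (relIndex_le_of_le_right hXy (fun h => Nat.card_pos.ne' h)).trans hBi
  have hB : B ≤ centralizer (D : Set G) := by
    rw [← key D hD hDy]
    exact fun b hb => mem_centralizer_iff.2 fun a ha => hBc a ha.2 b hb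
  have hFB : D ≤ centralizer (F : Set G) := by
    rw [← key F hF hFy]
    exact fun a ha => mem_centralizer_iff.2 fun b hb =>
      (mem_centralizer_iff.1 (hB hb.2) a ha).symm
  exact fun a ha b hb => (mem_centralizer_iff.1 (hFB ha) b hb).symm

theorem com_trans {D F X : Subgroup G} (hD : Stable p N Z D) (hF : Stable p N Z F)
    (hX : Stable p N Z X) (h1 : Com D F) (h2 : Com F X) : Com D X := by
  obtain ⟨y, hyF, hyZ⟩ := Stable.not_le H hF
  exact H.com_of_commute (hF.good.reg y hyF) hyZ hD hX
    (fun a ha => mem_centralizer_singleton_iff.2 (h1 a ha y hyF))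
    (fun a ha => mem_centralizer_singleton_iff.2 (h2 y hyF a ha).symm)

omit H in
theorem com_self {D : Subgroup G} (hD : Stable p N Z D) : Com D D :=
  fun a ha b hb => hD.good.comm a ha b hb

omit H in
theorem le_cls {D F : Subgroup G} (hF : Stable p N Z F) (h : Com D F) : F ≤ cls p N Z D :=
  le_iSup (fun E : {E : Subgroup G // Stable p N Z E ∧ Com D E} => (E : Subgroup G)) ⟨F, hF, h⟩

theorem cls_good {D : Subgroup G} (hD : Stable p N Z D) : Good p Z (cls p N Z D) := by
  have hle : cls p N Z D ≤ centralizer (cls p N Z D : Set G) := by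
    refine iSup_le fun F => ?_
    rw [le_centralizer_iff]
    refine iSup_le fun X => ?_
    intro a ha
    exact mem_centralizer_iff.2 fun b hb =>
      H.com_trans F.2.1 hD X.2.1 F.2.2.symm' X.2.2 b hb a ha
  have hcomm : ∀ a ∈ cls p N Z D, ∀ b ∈ cls p N Z D, a * b = b * a := fun a ha b hb =>
    mem_centralizer_iff.1 (hle hb) a ha
  refine ⟨hD.good.le.trans (le_cls hD (com_self hD)), hcomm, fun a ha => ?_⟩
  induction ha using Subgroup.iSup_induction' with
  | hp F x hx => exact F.2.1.good.reg x hx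
  | h1 => exact reg_one
  | hmul x y hx hy hrx hry => exact reg_mul (hcomm x hx y hy) hrx hry

theorem cls_eq {D F : Subgroup G} (hD : Stable p N Z D) (hF : Stable p N Z F) (h : Com D F) :
    cls p N Z D = cls p N Z F := by
  apply le_antisymm
  · exact iSup_le fun X => le_cls X.2.1 (H.com_trans hF hD X.2.1 h.symm' X.2.2)
  · exact iSup_le fun X => le_cls X.2.1 (H.com_trans hD hF X.2.1 h X.2.2)

theorem attached_unique {A A' : Subgroup G} {y : G} (h : y ∈ attached p N Z A)
    (h' : y ∈ attached p N Z A') : A = A' := by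
  obtain ⟨hy, hyZ, D, hD, rfl, hDy⟩ := h
  obtain ⟨-, -, F, hF, rfl, hFy⟩ := h'
  exact H.cls_eq hD hF (H.com_of_commute hy hyZ hD hF hDy hFy)

theorem mem_attached_of_mem {D : Subgroup G} (hD : Stable p N Z D) {a : G}
    (ha : a ∈ cls p N Z D) (haZ : a ∉ Z) : a ∈ attached p N Z (cls p N Z D) := by
  have hg := H.cls_good hD
  refine ⟨hg.reg a ha, haZ, D, hD, rfl, fun x hx => mem_centralizer_singleton_iff.2 ?_⟩
  exact hg.comm x (le_cls hD (com_self hD) hx) a ha

omit H in
theorem map_stable (e : G ≃* G) (he : Z.map e.toMonoidHom = Z) {D : Subgroup G} (hD : Stable p N Z D) :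
    Stable p N Z (D.map e.toMonoidHom) := by
  have hinj : Function.Injective e.toMonoidHom := e.injective
  refine ⟨⟨he.ge.trans (map_mono hD.good.le), ?_, ?_⟩, ?_, ?_⟩
  · rintro - ⟨a, ha, rfl⟩ - ⟨b, hb, rfl⟩
    rw [← map_mul, ← map_mul, hD.good.comm a ha b hb]
  · rintro - ⟨a, ha, rfl⟩
    exact reg_map e.toMonoidHom (hD.good.reg a ha)
  · rw [← he, relIndex_map_map_of_injective _ _ hinj]
    exact hD.big
  · intro D' hD' hZ hi
    obtain ⟨D'', rfl⟩ : ∃ D'', D''.map e.toMonoidHom = D' :=
      ⟨D'.comap e.toMonoidHom, map_comap_eq_self_of_surjective e.surjective D'⟩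
    rw [← he] at hZ
    rw [map_le_map_iff_of_injective hinj] at hD' hZ
    rw [relIndex_map_map_of_injective _ _ hinj] at hi
    have h := hD.same D'' hD' hZ hi
    have hc : ∀ X : Subgroup G, centralizer ((X.map e.toMonoidHom : Subgroup G) : Set G) =
        (centralizer (X : Set G)).map e.toMonoidHom := by
      intro X
      ext g
      obtain ⟨g, rfl⟩ := e.surjective g
      show e g ∈ _ ↔ e.toMonoidHom g ∈ _
      rw [mem_map_iff_mem (f := e.toMonoidHom) hinj, mem_centralizer_iff, mem_centralizer_iff]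
      constructor
      · intro h a ha
        exact e.injective (by rw [map_mul, map_mul]; exact h _ ⟨a, ha, rfl⟩)
      · rintro h - ⟨a, ha, rfl⟩
        show e a * e g = e g * e a
        rw [← map_mul, ← map_mul, h a ha]
    rw [hc, hc, h]

omit H in
theorem map_cls (e : G ≃* G) (he : Z.map e.toMonoidHom = Z) (D : Subgroup G) :
    (cls p N Z D).map e.toMonoidHom = cls p N Z (D.map e.toMonoidHom) := by
  have key : ∀ (e : G ≃* G), Z.map e.toMonoidHom = Z → ∀ D : Subgroup G,
      (cls p N Z D).map e.toMonoidHom ≤ cls p N Z (D.map e.toMonoidHom) := by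
    intro e he D
    rw [cls, Subgroup.map_iSup]
    refine iSup_le fun F => le_cls (map_stable e he F.2.1) ?_
    rintro - ⟨a, ha, rfl⟩ - ⟨b, hb, rfl⟩
    rw [← map_mul, ← map_mul, F.2.2 a ha b hb]
  refine le_antisymm (key e he D) ?_
  have he' : Z.map e.symm.toMonoidHom = Z := by
    conv_lhs => rw [← he]
    rw [map_map]
    exact (congrArg (fun f => Z.map f) (MonoidHom.ext fun x => e.symm_apply_apply x)).trans
      (map_id Z)
  have h := map_mono (f := e.toMonoidHom) (key e.symm he' (D.map e.toMonoidHom))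
  have e1 : ∀ X : Subgroup G, (X.map e.toMonoidHom).map e.symm.toMonoidHom = X := fun X => by
    rw [map_map]
    exact (congrArg (fun f => X.map f) (MonoidHom.ext fun x => e.symm_apply_apply x)).trans (map_id X)
  have e2 : ∀ X : Subgroup G, (X.map e.symm.toMonoidHom).map e.toMonoidHom = X := fun X => by
    rw [map_map]
    exact (congrArg (fun f => X.map f) (MonoidHom.ext fun x => e.apply_symm_apply x)).trans (map_id X)
  rwa [e1, e2] at h

theorem map_conj_scalars (g : G) : Z.map (MulAut.conj g).toMonoidHom = Z := by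
  ext z
  constructor
  · rintro ⟨a, ha, rfl⟩
    show g * a * g⁻¹ ∈ Z
    rw [H.central a ha g, mul_inv_cancel_right]; exact ha
  · intro hz
    exact ⟨z, hz, show g * z * g⁻¹ = z by rw [H.central z hz g, mul_inv_cancel_right]⟩

theorem conj_cls (g : G) (D : Subgroup G) :
    (cls p N Z D).map (MulAut.conj g).toMonoidHom = cls p N Z (D.map (MulAut.conj g).toMonoidHom) :=
  map_cls _ (H.map_conj_scalars g) D

theorem mem_normalizer_of_attached {A : Subgroup G} {y : G} (hy : y ∈ attached p N Z A) :
    y ∈ normalizer (A : Set G) := by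
  obtain ⟨-, -, D, -, rfl, hDy⟩ := hy
  have hfix : D.map (MulAut.conj y).toMonoidHom = D := by
    ext x
    constructor
    · rintro ⟨a, ha, rfl⟩
      show y * a * y⁻¹ ∈ D
      rw [← mem_centralizer_singleton_iff.1 (hDy ha), mul_inv_cancel_right]; exact ha
    · intro hx
      exact ⟨x, hx, show y * x * y⁻¹ = x by
        rw [← mem_centralizer_singleton_iff.1 (hDy hx), mul_inv_cancel_right]⟩
  have h := H.conj_cls y D
  rw [hfix] at h
  rw [mem_normalizer_iff]
  intro x
  constructor
  · intro hx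
    rw [← h]
    exact ⟨x, hx, rfl⟩
  · intro hx
    rw [← h] at hx
    obtain ⟨a, ha, hax⟩ := hx
    have : a = x := (MulAut.conj y).injective hax
    exact this ▸ ha

/-- The class subgroup has bounded index in its normaliser. -/
theorem cls_index_le {D : Subgroup G} (hD : Stable p N Z D) :
    (cls p N Z D).relIndex (normalizer (cls p N Z D : Set G)) ≤ K * (N * N ^ (D₀ + 1)) := by
  set A := cls p N Z D with hA
  have hg := H.cls_good hD
  obtain ⟨a, haD, haZ⟩ := Stable.not_le H hD
  have haA : a ∈ A := le_cls hD (com_self hD) haD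
  have hAC : A ≤ centralizer (A : Set G) := fun x hx => mem_centralizer_iff.2 fun b hb =>
    hg.comm b hb x hx
  obtain ⟨B, hZB, hBa, hBc, hBr, hBi⟩ := H.cent a (hg.reg a haA) haZ
  set C := centralizer (A : Set G) with hC
  have hCa : C ≤ centralizer ({a} : Set G) :=
    centralizer_le (Set.singleton_subset_iff.2 haA)
  have h1 : (B ⊓ C).relIndex C ≤ N := by
    rw [inf_relIndex_right]
    exact (relIndex_le_of_le_right hCa (fun h => Nat.card_pos.ne' h)).trans hBi
  have h2 : A.relIndex (B ⊓ C) ≤ N ^ (D₀ + 1) := by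
    by_contra hlt
    push_neg at hlt
    have hgood : Good p Z (B ⊓ C) := ⟨le_inf hZB (hg.le.trans hAC),
      fun x hx z hz => hBc x hx.1 z hz.1, fun x hx => hBr x hx.1⟩
    obtain ⟨F, hF, hFs, hFl⟩ := H.exists_stable hgood hg.le hlt
    have hcom : Com D F := fun x hx z hz =>
      mem_centralizer_iff.1 (hF hz).2 x (le_cls hD (com_self hD) hx)
    rw [Subgroup.relIndex_eq_one.2 (le_cls hFs hcom)] at hFl
    have := H.npos
    omega
  have h3 : A.relIndex C ≤ N * N ^ (D₀ + 1) := by
    refine (relIndex_le_of_le_left (H := A ⊓ (B ⊓ C)) inf_le_left (fun h => Nat.card_pos.ne' h)).trans ?_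
    rw [← relIndex_mul_relIndex (A ⊓ (B ⊓ C)) (B ⊓ C) C inf_le_right inf_le_right, inf_relIndex_right,
      mul_comm]
    exact Nat.mul_le_mul h1 h2
  rw [← relIndex_mul_relIndex A C (normalizer (A : Set G)) hAC (centralizer_le_normalizer _), mul_comm]
  exact Nat.mul_le_mul (H.auto A hg.comm hg.reg) h3

/-- A non-scalar `p`-regular element attached to no class has a small centraliser. -/
theorem small_centralizer {y : G} (hy : Reg p y) (hyZ : y ∉ Z)
    (h : ∀ A, y ∉ attached p N Z A) :
    Z.relIndex (centralizer ({y} : Set G)) ≤ N ^ (D₀ + 1) * N := by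
  obtain ⟨B, hZB, hBy, hBc, hBr, hBi⟩ := H.cent y hy hyZ
  rw [← relIndex_mul_relIndex Z B _ hZB hBy]
  refine Nat.mul_le_mul ?_ hBi
  by_contra hlt
  push_neg at hlt
  obtain ⟨D, hD, hDs, -⟩ := H.exists_stable ⟨hZB, hBc, hBr⟩ le_rfl hlt
  exact h _ ⟨hy, hyZ, D, hDs, rfl, hD.trans hBy⟩

/-- Together with `A` the attached elements form cosets of `A` in its normaliser. -/
theorem attached_coset {D : Subgroup G} (hD : Stable p N Z D) {y a : G}
    (hy : y ∈ attached p N Z (cls p N Z D) ∨ y ∈ cls p N Z D) (ha : a ∈ cls p N Z D) :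
    y * a ∈ attached p N Z (cls p N Z D) ∨ y * a ∈ cls p N Z D := by
  set A := cls p N Z D with hA
  have hg := H.cls_good hD
  by_cases hya : y * a ∈ A
  · exact Or.inr hya
  rcases hy with hy | hy
  · refine Or.inl ?_
    have hyN := H.mem_normalizer_of_attached hy
    obtain ⟨hyr, -, F, hF, hFA, hFy⟩ := hy
    refine ⟨?_, fun h => hya (hg.le h), F, hF, hFA, fun x hx => ?_⟩
    · have hnorm : (A.subgroupOf (normalizer (A : Set G))).Normal :=
        normal_in_normalizer (H := A)
      set N' := normalizer (A : Set G)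
      let q := QuotientGroup.mk' (A.subgroupOf N')
      have haN : a ∈ N' := le_normalizer ha
      have hqe : q ⟨y * a, N'.mul_mem hyN haN⟩ = q ⟨y, hyN⟩ := by
        rw [show (⟨y * a, N'.mul_mem hyN haN⟩ : N') = ⟨y, hyN⟩ * ⟨a, haN⟩ from rfl, map_mul,
          show q ⟨a, haN⟩ = 1 from (QuotientGroup.eq_one_iff _).2 ha, mul_one]
      set o := orderOf y
      have hmem : (y * a) ^ o ∈ A := by
        have h1 : q (⟨y * a, N'.mul_mem hyN haN⟩ ^ o) = 1 := by
          rw [map_pow, hqe, ← map_pow, show (⟨y, hyN⟩ : N') ^ o = 1 from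
            Subtype.ext (pow_orderOf_eq_one y), map_one]
        have h2 := (QuotientGroup.eq_one_iff ((⟨y * a, N'.mul_mem hyN haN⟩ : N') ^ o)).1 h1
        exact h2
      intro hdvd
      have h2 : orderOf (y * a) ∣ o * orderOf ((y * a) ^ o) := by
        apply orderOf_dvd_of_pow_eq_one
        rw [pow_mul, pow_orderOf_eq_one]
      exact (hp.out.dvd_mul.1 (hdvd.trans h2)).elim hyr (hg.reg _ hmem)
    · have hxA : x ∈ A := hFA ▸ le_cls hF (com_self hF) hx
      rw [mem_centralizer_singleton_iff, ← mul_assoc, mem_centralizer_singleton_iff.1 (hFy hx),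
        mul_assoc, hg.comm x hxA a ha, ← mul_assoc]
  · exact Or.inr (A.mul_mem hy ha)

end Setup

end CfsgLib.LinJordan
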